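import Cfsg.Agent.Lib.Spor.J4Cent.Vec
import Cfsg.Agent.Lib.Spor.J4Cent.Data
import Cfsg.Prelude.Def_Spor_J4

/-!
Checks of the relators and of the defining words of the named elements.
-/

set_option linter.all false
set_option maxRecDepth 100000
set_option maxHeartbeats 2000000

namespace CfsgLib.Spor.J4Cent

open CfsgLib.PresCert

/-- two words give the same matrix -/
noncomputable def sameM (u w : List Nat) : Bool :=
  forceN (ones (nat_lit 112)) fun O => forceN (pack units) fun I0 =>
    Nat.beq (matW tabs O I0 u) (matW tabs O I0 w)

/-- the number of a letter of a relator -/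
def code : Cfsg.Spor.J4.Gen × Bool → Nat
  | (.x, _) => 0 | (.y, true) => 1 | (.y, false) => 3 | (.t, _) => 2

/-- word of a relator -/
def relW (k : Nat) : List Nat := ((Cfsg.Spor.J4.extra.getD k 1).toWord).map code

theorem rel0_ok : sameM (relW 0) [] = true := by decide +kernel
theorem rel1_ok : sameM (relW 1) [] = true := by decide +kernel
theorem rel2_ok : sameM (relW 2) [] = true := by decide +kernel
theorem rel3_ok : sameM (relW 3) [] = true := by decide +kernel
theorem rel4_ok : sameM (relW 4) [] = true := by decide +kernel
theorem rel5_ok : sameM (relW 5) [] = true := by decide +kernel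
theorem rel6_ok : sameM (relW 6) [] = true := by decide +kernel
theorem rel7_ok : sameM (relW 7) [] = true := by decide +kernel
theorem rel8_ok : sameM (relW 8) [] = true := by decide +kernel
theorem rel9_ok : sameM (relW 9) [] = true := by decide +kernel
theorem rel10_ok : sameM (relW 10) [] = true := by decide +kernel
theorem rel11_ok : sameM (relW 11) [] = true := by decide +kernel

theorem pair_ok : (sameM [0, 0] [] && sameM [2, 2] [] && sameM [1, 3] [] && sameM [3, 1] []) = true := by
  decide +kernel

theorem def0_ok : sameM [4] (defs.getD 0 []) = true := by decide +kernel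
theorem def1_ok : sameM [5] (defs.getD 1 []) = true := by decide +kernel
theorem def2_ok : sameM [6] (defs.getD 2 []) = true := by decide +kernel
theorem def3_ok : sameM [7] (defs.getD 3 []) = true := by decide +kernel
theorem def4_ok : sameM [8] (defs.getD 4 []) = true := by decide +kernel
theorem def5_ok : sameM [9] (defs.getD 5 []) = true := by decide +kernel
theorem def6_ok : sameM [10] (defs.getD 6 []) = true := by decide +kernel
theorem def7_ok : sameM [11] (defs.getD 7 []) = true := by decide +kernel
theorem def8_ok : sameM [12] (defs.getD 8 []) = true := by decide +kernel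
theorem def9_ok : sameM [13] (defs.getD 9 []) = true := by decide +kernel
theorem def10_ok : sameM [14] (defs.getD 10 []) = true := by decide +kernel
theorem def11_ok : sameM [15] (defs.getD 11 []) = true := by decide +kernel
theorem def12_ok : sameM [16] (defs.getD 12 []) = true := by decide +kernel
theorem def13_ok : sameM [17] (defs.getD 13 []) = true := by decide +kernel
theorem def14_ok : sameM [18] (defs.getD 14 []) = true := by decide +kernel
theorem def15_ok : sameM [19] (defs.getD 15 []) = true := by decide +kernel
theorem def16_ok : sameM [20] (defs.getD 16 []) = true := by decide +kernel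
theorem def17_ok : sameM [21] (defs.getD 17 []) = true := by decide +kernel
theorem def18_ok : sameM [22] (defs.getD 18 []) = true := by decide +kernel
theorem def19_ok : sameM [23] (defs.getD 19 []) = true := by decide +kernel
theorem def20_ok : sameM [24] (defs.getD 20 []) = true := by decide +kernel
theorem def21_ok : sameM [25] (defs.getD 21 []) = true := by decide +kernel
theorem def22_ok : sameM [26] (defs.getD 22 []) = true := by decide +kernel
theorem def23_ok : sameM [27] (defs.getD 23 []) = true := by decide +kernel
theorem def24_ok : sameM [28] (defs.getD 24 []) = true := by decide +kernel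
theorem def25_ok : sameM [29] (defs.getD 25 []) = true := by decide +kernel
theorem def26_ok : sameM [30] (defs.getD 26 []) = true := by decide +kernel
theorem def27_ok : sameM [31] (defs.getD 27 []) = true := by decide +kernel
theorem def28_ok : sameM [32] (defs.getD 28 []) = true := by decide +kernel
theorem def29_ok : sameM [33] (defs.getD 29 []) = true := by decide +kernel
theorem def30_ok : sameM [34] (defs.getD 30 []) = true := by decide +kernel
theorem def31_ok : sameM [35] (defs.getD 31 []) = true := by decide +kernel

theorem defs_ok (i : Nat) (hi : i < defs.length) : sameM [i + 4] (defs.getD i []) = true := by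
  have h : i < 32 := hi
  interval_cases i
  · exact def0_ok
  · exact def1_ok
  · exact def2_ok
  · exact def3_ok
  · exact def4_ok
  · exact def5_ok
  · exact def6_ok
  · exact def7_ok
  · exact def8_ok
  · exact def9_ok
  · exact def10_ok
  · exact def11_ok
  · exact def12_ok
  · exact def13_ok
  · exact def14_ok
  · exact def15_ok
  · exact def16_ok
  · exact def17_ok
  · exact def18_ok
  · exact def19_ok
  · exact def20_ok
  · exact def21_ok
  · exact def22_ok
  · exact def23_ok
  · exact def24_ok
  · exact def25_ok
  · exact def26_ok
  · exact def27_ok
  · exact def28_ok
  · exact def29_ok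
  · exact def30_ok
  · exact def31_ok

theorem rels_ok (k : Nat) (hk : k < 12) : sameM (relW k) [] = true := by
  interval_cases k
  · exact rel0_ok
  · exact rel1_ok
  · exact rel2_ok
  · exact rel3_ok
  · exact rel4_ok
  · exact rel5_ok
  · exact rel6_ok
  · exact rel7_ok
  · exact rel8_ok
  · exact rel9_ok
  · exact rel10_ok
  · exact rel11_ok

theorem defs_lt : ((List.range defs.length).all fun i =>
    (defs.getD i []).all fun x => Nat.blt x (i + 4)) = true := by decide +kernel

end CfsgLib.Spor.J4Cent
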