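import Cfsg.Agent.Lib.Spor.J4Cent.TabsOK
import Cfsg.Agent.Lib.Spor.J4Cent.RelOK

/-!
The presented fourth Janko group acts linearly on binary vectors of length 112, and named elements
act by their tables.
-/

set_option autoImplicit false
set_option maxHeartbeats 1000000

namespace CfsgLib.Spor.J4Cent

open CfsgLib.PresCert Cfsg.Spor Equiv

/-- the vectors -/
abbrev V : Type := {v : Nat // v < 2 ^ 112}

/-- apply a word -/
noncomputable abbrev app : List Nat → Nat → Nat := appW tabs

theorem app_lt : ∀ (w : List Nat) {v : Nat}, v < 2 ^ 112 → app w v < 2 ^ 112 := by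
  intro w
  induction w with
  | nil => intro v hv; exact hv
  | cons x w ih => intro v _; rw [app, appW_cons]; exact ih (vm_lt _ _)

theorem app_xor : ∀ (w : List Nat) (a b : Nat), app w (a ^^^ b) = app w a ^^^ app w b := by
  intro w
  induction w with
  | nil => intro a b; rfl
  | cons x w ih =>
    intro a b
    simp only [app, appW_cons, vm_xor (tabAt_ok x).1]
    exact ih _ _

theorem app_eq_of_sameM {u w : List Nat} (h : sameM u w = true) :
    ∀ v < 2 ^ 112, app u v = app w v := by
  simp only [sameM, forceN_eq] at h
  have e := Nat.eq_of_beq_eq_true h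
  have hl : ∀ v ∈ units, v < 2 ^ 112 := by
    simp only [units, List.forall_mem_map, List.mem_range]
    exact fun j hj => Nat.pow_lt_pow_right (by norm_num) hj
  have hu : units.length = 112 := by simp [units]
  have s := fun w => matW_spec (fun x => (tabAt_ok x).1) (fun x => (tabAt_ok x).2) w units hl
  rw [hu] at s
  rw [s u, s w] at e
  have e' := pack_inj (by simp) (List.forall_mem_map.2 fun v hv => app_lt u (hl v hv))
    (List.forall_mem_map.2 fun v hv => app_lt w (hl v hv)) e
  refine lin_ext (app_xor u) (app_xor w) 112 fun j hj => ?_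
  have hm : (2 ^ j) ∈ units := List.mem_map.2 ⟨j, List.mem_range.2 hj, rfl⟩
  exact List.map_inj_left.1 e' _ hm

/-- the inverse letter -/
def ix : Nat → Nat
  | 1 => 3 | 3 => 1 | x => x

theorem app_ix (x : Nat) (hx : x < 4) {v : Nat} (hv : v < 2 ^ 112) :
    app [ix x] (app [x] v) = v := by
  rw [app, ← appW_append]
  have := pair_ok
  simp only [Bool.and_eq_true] at this
  obtain ⟨⟨⟨h0, h2⟩, h1⟩, h3⟩ := this
  interval_cases x
  exacts [app_eq_of_sameM h0 v hv, app_eq_of_sameM h1 v hv, app_eq_of_sameM h2 v hv,
    app_eq_of_sameM h3 v hv]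

/-- one letter as a permutation -/
noncomputable def stp (x : Nat) : Perm V :=
  if hx : x < 4 then
    { toFun := fun v => ⟨app [x] v, app_lt _ v.2⟩
      invFun := fun v => ⟨app [ix x] v, app_lt _ v.2⟩
      left_inv := fun v => Subtype.ext (app_ix x hx v.2)
      right_inv := fun v => Subtype.ext (by
        have h := app_ix (ix x) (by interval_cases x <;> decide) v.2
        rwa [show ix (ix x) = x by interval_cases x <;> rfl] at h) }
  else 1

theorem stp_val {x : Nat} (hx : x < 4) (v : V) : ((stp x v : V) : Nat) = app [x] v := by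
  simp [stp, hx]

/-- the permutations of the generators -/
noncomputable def permGen : J4.Gen → Perm V
  | .x => (stp 0)⁻¹ | .y => (stp 1)⁻¹ | .t => (stp 2)⁻¹

/-- the relators of the presentation -/
abbrev rels : Set (FreeGroup J4.Gen) := coxRelators J4.edges ∪ {r | r ∈ J4.extra}

/-- the value of a letter -/
def lets {Q : Type*} [Group Q] (f : J4.Gen → Q) : Nat → Q
  | 0 => f .x | 1 => f .y | 2 => f .t | 3 => (f .y)⁻¹ | _ => 1

theorem lets_perm {x : Nat} (hx : x < 4) : (lets permGen x)⁻¹ = stp x := by
  interval_cases x
  all_goals try exact inv_inv (stp _)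
  show (((stp 1)⁻¹)⁻¹)⁻¹ = stp 3
  rw [inv_inv]
  refine inv_eq_of_mul_eq_one_right (Equiv.ext fun v => Subtype.ext ?_)
  rw [Perm.mul_apply, stp_val (by omega), stp_val (by omega)]
  exact app_ix 3 (by omega) v.2

theorem prod_perm : ∀ (w : List Nat), (∀ x ∈ w, x < 4) → ∀ v : V,
    ((((w.map (lets permGen)).prod)⁻¹ v : V) : Nat) = app w v := by
  intro w
  induction w with
  | nil => intro _ v; simp [app, appW_nil]
  | cons x w ih =>
    intro hw v
    rw [List.map_cons, List.prod_cons, mul_inv_rev, Perm.mul_apply,
      ih (fun y hy => hw y (List.mem_cons_of_mem _ hy)), lets_perm (hw x (List.mem_cons_self ..)),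
      stp_val (hw x (List.mem_cons_self ..))]
    simp [app, appW_cons, appW_nil]

theorem perm_rels : ∀ r ∈ rels, FreeGroup.lift permGen r = 1 := by
  rintro r (⟨x, hx, -⟩ | hr)
  · simp [J4.edges, coxNodes] at hx
  obtain ⟨k, hk12, rfl⟩ : ∃ k, k < 12 ∧ J4.extra.getD k 1 = r := by
    obtain ⟨k, hk, rfl⟩ := List.getElem_of_mem hr
    exact ⟨k, hk, List.getD_eq_getElem _ _ hk⟩
  have hsq : ∀ x, x = 0 ∨ x = 2 → lets permGen x = (lets permGen x)⁻¹ := by
    intro x hx
    rw [lets_perm (by omega)]
    refine inv_injective ?_
    rw [lets_perm (by omega)]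
    refine eq_inv_of_mul_eq_one_left (Equiv.ext fun v => Subtype.ext ?_)
    rw [Perm.mul_apply, stp_val (by omega), stp_val (by omega)]
    rcases hx with rfl | rfl
    · exact app_ix 0 (by omega) v.2
    · exact app_ix 2 (by omega) v.2
  have e : FreeGroup.lift permGen (J4.extra.getD k 1) = ((relW k).map (lets permGen)).prod := by
    conv_lhs => rw [← FreeGroup.mk_toWord (x := J4.extra.getD k 1)]
    rw [FreeGroup.lift_mk, relW, List.map_map]
    refine congrArg List.prod (List.map_congr_left fun p _ => ?_)
    rcases p with ⟨_ | _ | _, _ | _⟩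
    · exact (hsq 0 (Or.inl rfl)).symm
    · rfl
    · rfl
    · rfl
    · exact (hsq 2 (Or.inr rfl)).symm
    · rfl
  rw [e]
  refine inv_eq_one.1 (Equiv.ext fun v => Subtype.ext ?_)
  rw [prod_perm _ (fun x hx => ?_), Perm.one_apply]
  · exact app_eq_of_sameM (rels_ok k hk12) v v.2
  · simp only [relW, List.mem_map] at hx
    obtain ⟨⟨_ | _ | _, _ | _⟩, -, rfl⟩ := hx <;> decide

/-- the representation on the vectors -/
noncomputable def π : Cfsg.Spor.J4 →* Perm V := PresentedGroup.toGroup perm_rels

/-- the generators -/
def gen (g : J4.Gen) : Cfsg.Spor.J4 := PresentedGroup.of g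

theorem π_gen (g : J4.Gen) : π (gen g) = permGen g := PresentedGroup.toGroup.of perm_rels

theorem π_lets (x : Nat) : π (lets gen x) = lets permGen x := by
  unfold lets
  split <;> simp [π_gen]

/-- extend a list of values by one word -/
def addW (acc : List Cfsg.Spor.J4) (w : List Nat) : List Cfsg.Spor.J4 :=
  acc ++ [(w.map fun i => acc.getD i 1).prod]

/-- values of letters and named elements -/
def vals : List Cfsg.Spor.J4 := defs.foldl addW [gen .x, gen .y, gen .t, (gen .y)⁻¹]

/-- a list of values agrees with the tables -/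
def Good (acc : List Cfsg.Spor.J4) : Prop :=
  ∀ i < acc.length, ∀ v : V, ((π (acc.getD i 1)⁻¹ v : V) : Nat) = app [i] v

theorem Good.prod {acc : List Cfsg.Spor.J4} (h : Good acc) : ∀ (w : List Nat),
    (∀ x ∈ w, x < acc.length) → ∀ v : V,
      ((π ((w.map fun i => acc.getD i 1).prod)⁻¹ v : V) : Nat) = app w v := by
  intro w
  induction w with
  | nil => intro _ v; simp [app, appW_nil]
  | cons x w ih =>
    intro hw v
    rw [List.map_cons, List.prod_cons, mul_inv_rev, map_mul, Perm.mul_apply,
      ih (fun y hy => hw y (List.mem_cons_of_mem _ hy)), h x (hw x (List.mem_cons_self ..))]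
    simp [app, appW_cons, appW_nil]

theorem good_foldl : ∀ (n : Nat), n ≤ defs.length →
    Good ((defs.take n).foldl addW [gen .x, gen .y, gen .t, (gen .y)⁻¹]) ∧
      ((defs.take n).foldl addW [gen .x, gen .y, gen .t, (gen .y)⁻¹]).length = n + 4 := by
  intro n
  induction n with
  | zero =>
    intro _
    refine ⟨fun i hi v => ?_, rfl⟩
    have hi4 : i < 4 := hi
    have e : ([gen .x, gen .y, gen .t, (gen .y)⁻¹] : List Cfsg.Spor.J4).getD i 1 = lets gen i := by
      interval_cases i <;> rfl
    simp only [List.take_zero, List.foldl_nil]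
    rw [e, map_inv, π_lets, lets_perm hi4, stp_val hi4]
  | succ n ih =>
    intro hn
    obtain ⟨hg, hl⟩ := ih (by omega)
    rw [List.take_succ_eq_append_getElem (by omega), List.foldl_append, List.foldl_cons, List.foldl_nil]
    set acc := (defs.take n).foldl addW [gen .x, gen .y, gen .t, (gen .y)⁻¹]
    refine ⟨fun i hi v => ?_, by simp [addW, hl]⟩
    rw [addW, List.length_append, List.length_singleton, hl] at hi
    rcases Nat.lt_succ_iff_lt_or_eq.1 hi with hlt | rfl
    · rw [addW, List.getD_append _ _ _ _ (by omega)]
      exact hg i (by omega) v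
    · rw [addW, List.getD_append_right _ _ _ _ (by omega), hl, Nat.sub_self, List.getD_cons_zero]
      have hlt : ∀ x ∈ defs[n], x < acc.length := by
        have := defs_lt
        simp only [List.all_eq_true, List.mem_range, Nat.blt_eq] at this
        intro x hx
        have := this n (by omega) x (by rwa [List.getD_eq_getElem _ _ (by omega)])
        omega
      rw [hg.prod _ hlt v]
      have := app_eq_of_sameM (defs_ok n (by omega)) v v.2
      rw [List.getD_eq_getElem _ _ (by omega)] at this
      exact this.symm

theorem good_vals : Good vals ∧ vals.length = 36 := by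
  have := good_foldl defs.length le_rfl
  rw [List.take_length] at this
  exact this

/-- the element moving the vectors as the word does -/
noncomputable def El (w : List Nat) : Cfsg.Spor.J4 := ((w.map fun i => vals.getD i 1).prod)⁻¹

/-- the entries of a word are numbers of tables -/
def lt36 (w : List Nat) : Bool := w.all fun x => Nat.blt x 36

theorem lt36_iff {w : List Nat} : lt36 w = true ↔ ∀ x ∈ w, x < 36 := by
  simp [lt36, List.all_eq_true]

theorem El_nil : El [] = 1 := by simp [El]

theorem El_append (u w : List Nat) : El (u ++ w) = El w * El u := by simp [El]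

theorem El_cons (x : Nat) (w : List Nat) : El (x :: w) = El w * El [x] := El_append [x] w

theorem π_El {w : List Nat} (h : lt36 w = true) (v : V) : ((π (El w) v : V) : Nat) = app w v :=
  good_vals.1.prod w (fun x hx => good_vals.2 ▸ lt36_iff.1 h x hx) v

/-- sum of two vectors -/
def vx (a b : V) : V := ⟨a.1 ^^^ b.1, Nat.xor_lt_two_pow a.2 b.2⟩

/-- the elements acting linearly -/
noncomputable def Lin : Subgroup Cfsg.Spor.J4 where
  carrier := {g | ∀ a b : V, π g (vx a b) = vx (π g a) (π g b)}
  one_mem' := by simp
  mul_mem' := fun {g h} hg hh a b => by simp [hh a b, hg (π h a) (π h b)]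
  inv_mem' := fun {g} hg a b => by
    refine (π g).injective ?_
    rw [hg]
    simp [map_inv]

theorem π_vx (g : Cfsg.Spor.J4) (a b : V) : π g (vx a b) = vx (π g a) (π g b) := by
  suffices g ∈ Lin from this a b
  have htop : (⊤ : Subgroup Cfsg.Spor.J4) ≤ Lin := by
    rw [← PresentedGroup.closure_range_of, Subgroup.closure_le]
    rintro _ ⟨x, rfl⟩
    have key : ∀ i < 4, (lets gen i)⁻¹ ∈ Lin := fun i hi a b => by
      rw [map_inv, π_lets, lets_perm hi]
      exact Subtype.ext (by simp only [stp_val hi, vx]; exact app_xor _ _ _)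
    cases x
    · exact inv_mem_iff.1 (key 0 (by omega))
    · exact inv_mem_iff.1 (key 1 (by omega))
    · exact inv_mem_iff.1 (key 2 (by omega))
  exact htop (Subgroup.mem_top g)

/-- different elements act differently -/
class Faith : Prop where
  inj : Function.Injective π

variable [Faith]

theorem π_injective : Function.Injective π := Faith.inj

theorem El_eq_of_sameM {u w : List Nat} (h : (lt36 u && lt36 w && sameM u w) = true) :
    El u = El w := by
  simp only [Bool.and_eq_true] at h
  refine π_injective (Equiv.ext fun v => Subtype.ext ?_)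
  rw [π_El h.1.1, π_El h.1.2]
  exact app_eq_of_sameM h.2 v v.2

end CfsgLib.Spor.J4Cent
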