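import Cfsg.Agent.Lib.Spor.J4Cent.Base

/-!
The normal elementary abelian 2-group of the point stabiliser, the conjugation by the letters, and
the orbit of the involution.
-/

set_option autoImplicit false
set_option maxRecDepth 100000
set_option maxHeartbeats 1000000

namespace CfsgLib.Spor.J4Cent

open CfsgLib.PresCert Cfsg.Spor Equiv

/-- the word of a code: the entries at the positions of its bits -/
def eWL : List Nat → Nat → List Nat
  | [], _ => []
  | x :: l, c => (if c.testBit 0 then [x] else []) ++ eWL l (c >>> 1)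

/-- the element of a code -/
noncomputable def e (a : Nat) : Cfsg.Spor.J4 := El (eWL eIds a)

/-- the involution -/
noncomputable def z : Cfsg.Spor.J4 := e 1

theorem eWL_mem : ∀ {l : List Nat} {c x : Nat}, x ∈ eWL l c → x ∈ l := by
  intro l
  induction l with
  | nil => intro c x h; simp [eWL] at h
  | cons y l ih =>
    intro c x h
    rw [eWL, List.mem_append] at h
    rcases h with h | h
    · split at h <;> simp_all
    · exact List.mem_cons_of_mem _ (ih h)

theorem lt36_eW (a : Nat) : lt36 (eWL eIds a) = true :=
  lt36_iff.2 fun x hx => lt36_iff.1 (show lt36 eIds = true by decide) x (eWL_mem hx)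

theorem lt36_append {u w : List Nat} : lt36 (u ++ w) = true ↔ lt36 u = true ∧ lt36 w = true := by
  simp [lt36, List.all_append]

theorem π_e (a : Nat) (v : V) : ((π (e a) v : V) : Nat) = app (eWL eIds a) v := π_El (lt36_eW a) v

theorem comm_ok0 : ((List.range 5).all fun i => (List.range 11).all fun j => Nat.ble j i ||
    sameM [eIds.getD i 0, eIds.getD j 0] [eIds.getD j 0, eIds.getD i 0]) = true := by decide +kernel

theorem comm_ok1 : ((List.range 11).all fun i => Nat.blt i 5 || (List.range 11).all fun j => Nat.ble j i ||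
    sameM [eIds.getD i 0, eIds.getD j 0] [eIds.getD j 0, eIds.getD i 0]) = true := by decide +kernel

theorem sq_ok : ((List.range 11).all fun i => sameM [eIds.getD i 0, eIds.getD i 0] []) = true := by
  decide +kernel

variable [Faith]

theorem El_sq {i : Nat} (hi : i ∈ eIds) : El [i] * El [i] = 1 := by
  rw [← El_append, ← El_nil]
  obtain ⟨k, hk, rfl⟩ := List.getElem_of_mem hi
  refine El_eq_of_sameM ?_
  have := sq_ok
  simp only [List.all_eq_true, List.mem_range] at this
  have h := this k hk
  rw [List.getD_eq_getElem _ _ hk] at h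
  simp only [List.singleton_append, Bool.and_eq_true, lt36_iff]
  refine ⟨⟨?_, by simp⟩, h⟩
  have h36 := lt36_iff.1 (show lt36 eIds = true by decide) _ (List.getElem_mem hk)
  simpa using h36

theorem El_comm {i j : Nat} (hi : i ∈ eIds) (hj : j ∈ eIds) : Commute (El [i]) (El [j]) := by
  obtain ⟨k, hk, rfl⟩ := List.getElem_of_mem hi
  obtain ⟨m, hm, rfl⟩ := List.getElem_of_mem hj
  have key : ∀ k m, k < m → m < 11 →
      Commute (El [eIds.getD k 0]) (El [eIds.getD m 0]) := by
    intro k m hkm hm'
    have hk' : k < 11 := by omega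
    have h : sameM [eIds.getD k 0, eIds.getD m 0] [eIds.getD m 0, eIds.getD k 0] = true := by
      rcases lt_or_ge k 5 with h5 | h5
      · have := comm_ok0
        simp only [List.all_eq_true, List.mem_range, Bool.or_eq_true, Nat.ble_eq] at this
        exact (this k h5 m hm').resolve_left (by omega)
      · have := comm_ok1
        simp only [List.all_eq_true, List.mem_range, Bool.or_eq_true, Nat.ble_eq, Nat.blt_eq] at this
        exact ((this k hk').resolve_left (by omega) m hm').resolve_left (by omega)
    have h36 : ∀ i < 11, eIds.getD i 0 < 36 := by decide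
    revert h
    generalize ha : eIds.getD k 0 = a
    generalize hb : eIds.getD m 0 = b
    intro h
    have hA : a < 36 := ha ▸ h36 k hk'
    have hB : b < 36 := hb ▸ h36 m hm'
    have e := El_eq_of_sameM (u := [a, b]) (w := [b, a]) (by
      simp only [Bool.and_eq_true, lt36_iff]
      exact ⟨⟨by simp [hA, hB], by simp [hA, hB]⟩, h⟩)
    rw [show [a, b] = [a] ++ [b] from rfl, show [b, a] = [b] ++ [a] from rfl, El_append, El_append] at e
    exact e.symm
  rw [← List.getD_eq_getElem (d := 0) eIds hk, ← List.getD_eq_getElem (d := 0) eIds hm]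
  rcases lt_trichotomy k m with h | rfl | h
  · exact key k m h hm
  · exact Commute.refl _
  · exact (key m k h hk).symm

theorem El_eWL_xor : ∀ {l : List Nat}, (∀ i ∈ l, i ∈ eIds) → ∀ a b,
    El (eWL l (a ^^^ b)) = El (eWL l a) * El (eWL l b) := by
  intro l
  induction l with
  | nil => intro _ a b; simp [eWL, El_nil]
  | cons x l ih =>
    intro h a b
    simp only [List.forall_mem_cons] at h
    have hc : ∀ c, Commute (El (eWL l c)) (El [x]) := fun c => by
      have hm : ∀ w : List Nat, (∀ i ∈ w, i ∈ eIds) → Commute (El w) (El [x]) := by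
        intro w
        induction w with
        | nil => intro _; rw [El_nil]; exact Commute.one_left _
        | cons y w ihw =>
          intro hw
          simp only [List.forall_mem_cons] at hw
          rw [El_cons]
          exact (ihw hw.2).mul_left (El_comm hw.1 h.1)
      exact hm _ fun i hi => h.2 i (eWL_mem hi)
    simp only [eWL, El_append, Nat.shiftRight_xor_distrib, ih h.2, Nat.testBit_xor]
    set A := El (eWL l (a >>> 1))
    set B := El (eWL l (b >>> 1))
    have hB : Commute B (El [x]) := hc _
    cases a.testBit 0 <;> cases b.testBit 0 <;> simp [El_nil, mul_assoc]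
    · exact hB.eq
    · rw [← mul_assoc (El [x]) B, ← hB.eq, mul_assoc, El_sq h.1, mul_one]

theorem e_xor (a b : Nat) : e (a ^^^ b) = e a * e b := El_eWL_xor (fun _ h => h) a b

theorem e_zero : e 0 = 1 := by
  have := e_xor 0 0
  simpa using this

theorem e_comm (a b : Nat) : Commute (e a) (e b) := by
  show e a * e b = e b * e a
  rw [← e_xor, Nat.xor_comm, e_xor]

theorem e_sq (a : Nat) : e a * e a = 1 := by rw [← e_xor, Nat.xor_self, e_zero]

theorem e_inv (a : Nat) : (e a)⁻¹ = e a := inv_eq_of_mul_eq_one_right (e_sq a)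

theorem eW_unit {j : Nat} (hj : j < 11) : eWL eIds (2 ^ j) = [eIds.getD j 0] := by
  interval_cases j <;> decide

/-! ### scanning all codes -/

/-- a predicate holds at all codes and the images of a vector -/
noncomputable def scanB (P : Nat → Nat → Bool) : List Nat → Nat → Nat → Nat → Bool :=
  List.rec (motive := fun _ => Nat → Nat → Nat → Bool) (fun _ a v => P a v)
    (fun x _ ih bit a v => forceN (Nat.shiftLeft bit (nat_lit 1)) fun bit' => ih bit' a v &&
      forceN (Nat.add a bit) fun a' => forceN (vm (tabAt tabs x) v) fun v' => ih bit' a' v')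

theorem scanB_nil (P : Nat → Nat → Bool) (bit a v : Nat) : scanB P [] bit a v = P a v := rfl

theorem scanB_cons (P : Nat → Nat → Bool) (x : Nat) (l : List Nat) (bit a v : Nat) :
    scanB P (x :: l) bit a v = (scanB P l (bit <<< 1) a v &&
      scanB P l (bit <<< 1) (a + bit) (vm (tabAt tabs x) v)) := by
  simp only [scanB, forceN_eq]
  rfl

theorem scanB_spec (P : Nat → Nat → Bool) : ∀ (l : List Nat) (bit a v : Nat),
    scanB P l bit a v = true → ∀ c < 2 ^ l.length, P (a + bit * c) (app (eWL l c) v) = true := by
  intro l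
  induction l with
  | nil =>
    intro bit a v h c hc
    obtain rfl : c = 0 := by simpa using hc
    rw [scanB_nil] at h
    simpa [eWL, app, appW_nil] using h
  | cons x l ih =>
    intro bit a v h c hc
    simp only [scanB_cons, Bool.and_eq_true] at h
    have hc2 : c >>> 1 < 2 ^ l.length := by
      rw [Nat.shiftRight_eq_div_pow, pow_one, Nat.div_lt_iff_lt_mul (by norm_num)]
      rw [List.length_cons, pow_succ] at hc
      exact hc
    have hs : bit <<< 1 = bit * 2 := by simp [Nat.shiftLeft_eq]
    have h2 : c >>> 1 = c / 2 := by rw [Nat.shiftRight_eq_div_pow, pow_one]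
    rcases Nat.mod_two_eq_zero_or_one c with hm | hm
    · have := ih _ a v h.1 _ hc2
      have hb : c.testBit 0 = false := by simp [Nat.testBit_zero, hm]
      rw [hs, h2, show bit * 2 * (c / 2) = bit * c by
        rw [mul_assoc]; congr 1; omega] at this
      simpa [eWL, hb, h2] using this
    · have := ih _ _ _ h.2 _ hc2
      have hb : c.testBit 0 = true := by simp [Nat.testBit_zero, hm]
      rw [hs, h2, show a + bit + bit * 2 * (c / 2) = a + bit * c by
        rw [add_assoc]; congr 1
        conv_rhs => rw [show c = 1 + 2 * (c / 2) by omega]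
        ring] at this
      simpa [eWL, hb, h2, app, appW_cons] using this

theorem inj_ok : (forceN uInj fun u =>
    scanB (fun a v => Nat.beq a 0 || !Nat.beq v u) eIds 1 0 u) = true := by decide +kernel

theorem e_eq_one {a : Nat} (ha : a < 2 ^ 11) (h : e a = 1) : a = 0 := by
  have hs := inj_ok
  rw [forceN_eq] at hs
  have := scanB_spec _ _ _ _ _ hs a ha
  simp only [Nat.zero_add, Nat.one_mul, Bool.or_eq_true, Bool.not_eq_true'] at this
  rcases this with h0 | h0
  · exact Nat.eq_of_beq_eq_true h0
  · exfalso
    have e2 := π_e a ⟨uInj, by decide⟩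
    rw [h, map_one, Perm.one_apply] at e2
    rw [← e2, Nat.beq_refl] at h0
    exact absurd h0 (by decide)

theorem e_inj {a b : Nat} (ha : a < 2 ^ 11) (hb : b < 2 ^ 11) (h : e a = e b) : a = b := by
  have h1 : e (a ^^^ b) = 1 := by rw [e_xor, h, e_sq]
  have := e_eq_one (Nat.xor_lt_two_pow ha hb) h1
  exact Nat.xor_eq_zero_iff.1 this

/-! ### conjugation by the letters -/

/-- conjugation by a letter, on codes -/
noncomputable def cm (c a : Nat) : Nat := dot (cMaps.getD c []) a

omit [Faith] in
theorem cm_lt {c a : Nat} : cm c a < 2 ^ 11 := by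
  have h : ∀ (rs : List Nat), (∀ r ∈ rs, r < 2 ^ 11) → ∀ v, dot rs v < 2 ^ 11 := by
    intro rs
    induction rs with
    | nil => intro _ v; exact Nat.two_pow_pos _
    | cons r rs ih =>
      intro hr v
      simp only [List.forall_mem_cons] at hr
      rw [dot_cons]
      refine Nat.xor_lt_two_pow ?_ (ih hr.2 _)
      show (v &&& 1) * r < 2 ^ 11
      rcases Nat.mod_two_eq_zero_or_one v with h' | h' <;>
        simp [-Nat.reducePow, Nat.and_one_is_mod, h', hr.1, Nat.two_pow_pos]
  refine h _ ?_ a
  have : (cMaps.all fun l => l.all fun r => Nat.blt r 2048) = true := by decide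
  simp only [List.all_eq_true, Nat.blt_eq] at this
  intro r hr
  rcases lt_or_ge c cMaps.length with hc | hc
  · rw [List.getD_eq_getElem _ _ hc] at hr
    exact this _ (List.getElem_mem hc) r hr
  · rw [List.getD_eq_default _ _ hc] at hr; simp at hr

theorem conj_ok : ([0, 1, 3].all fun c => sameM [c, ix c] [] && (List.range 11).all fun j =>
    sameM [ix c, eIds.getD j 0, c] (eWL eIds (cm c (2 ^ j)))) = true := by decide +kernel

theorem El_ix {c : Nat} (hc : c ∈ [0, 1, 3]) : El [ix c] = (El [c])⁻¹ := by
  refine eq_inv_of_mul_eq_one_left ?_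
  rw [← El_append, ← El_nil]
  refine El_eq_of_sameM ?_
  have := conj_ok
  simp only [List.all_eq_true, Bool.and_eq_true] at this
  simp only [List.singleton_append, Bool.and_eq_true]
  refine ⟨⟨?_, rfl⟩, (this c hc).1⟩
  fin_cases hc <;> decide

theorem hom_ext_code {G : Type*} [Group G] {f g : Nat → G} (hf : ∀ a b, f (a ^^^ b) = f a * f b)
    (hg : ∀ a b, g (a ^^^ b) = g a * g b) (h : ∀ j < 11, f (2 ^ j) = g (2 ^ j)) :
    ∀ a < 2 ^ 11, f a = g a := by
  suffices ∀ m ≤ 11, ∀ a < 2 ^ m, f a = g a from this 11 le_rfl
  intro m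
  induction m with
  | zero =>
    intro _ a ha
    obtain rfl : a = 0 := by simpa using ha
    have h1 : f 0 = 1 := by simpa using hf 0 0
    have h2 : g 0 = 1 := by simpa using hg 0 0
    rw [h1, h2]
  | succ n ih =>
    intro hn v hv
    rcases lt_or_ge v (2 ^ n) with hlt | hge
    · exact ih (by omega) v hlt
    · have hlt : v ^^^ 2 ^ n < 2 ^ n := by
        have h1 : v / 2 ^ n = 1 := by
          refine Nat.div_eq_of_lt_le (by simpa using hge) ?_
          rw [pow_succ] at hv; omega
        refine Nat.lt_pow_two_of_testBit _ fun i hi => ?_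
        rw [Nat.testBit_xor, Nat.testBit_two_pow]
        rcases hi.eq_or_lt with rfl | hi'
        · simp [Nat.testBit_eq_decide_div_mod_eq, h1]
        · rw [Nat.testBit_lt_two_pow (lt_of_lt_of_le hv (Nat.pow_le_pow_right (by norm_num) hi'))]
          simp [hi'.ne]
      rw [show v = (v ^^^ 2 ^ n) ^^^ 2 ^ n by simp, hf, hg, ih (by omega) _ hlt, h n (by omega)]

theorem e_conj {c a : Nat} (hc : c ∈ [0, 1, 3]) (ha : a < 2 ^ 11) :
    El [c] * e a * (El [c])⁻¹ = e (cm c a) := by
  refine hom_ext_code (f := fun a => El [c] * e a * (El [c])⁻¹) (g := fun a => e (cm c a))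
    (fun a b => by rw [e_xor]; group) (fun a b => by rw [cm, dot_xor, e_xor]; rfl)
    (fun j hj => ?_) a ha
  have := conj_ok
  simp only [List.all_eq_true, Bool.and_eq_true, List.mem_range] at this
  have h := El_eq_of_sameM (u := [ix c, eIds.getD j 0, c]) (w := eWL eIds (cm c (2 ^ j))) (by
    simp only [Bool.and_eq_true]
    refine ⟨⟨lt36_iff.2 ?_, lt36_eW _⟩, (this c hc).2 j hj⟩
    intro x hx
    simp only [List.mem_cons, List.not_mem_nil, or_false] at hx
    rcases hx with rfl | rfl | rfl
    · fin_cases hc <;> decide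
    · interval_cases j <;> decide
    · fin_cases hc <;> decide)
  rw [El_cons, El_cons (eIds.getD j 0), El_ix hc] at h
  simp only [e] at h ⊢
  rw [eW_unit hj]
  exact h

end CfsgLib.Spor.J4Cent
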