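import Cfsg.Agent.Lib.Spor.J4Cent.Pts
import Cfsg.Agent.Lib.ThreeTransp.LargeQuotient

/-!
The extraspecial subgroup of order 8192 and its extension by an element of order three.
-/

set_option autoImplicit false
set_option maxRecDepth 100000
set_option maxHeartbeats 1000000

namespace CfsgLib.Spor.J4Cent

open CfsgLib.PresCert Cfsg Cfsg.Spor
open scoped Pointwise

/-- inverse of the commutator form -/
def gramInv : List Nat := [394, 2549, 138, 2965, 458, 1218, 50, 63, 27, 8, 32, 10]

theorem gramInv_ok : ((List.range 12).all fun j =>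
    Nat.beq (dot gram (gramInv.getD j 0)) (2 ^ j)) = true := by decide +kernel

/-- the word of a reversed pair, corrected by the involution -/
def pairW (i j : Nat) : List Nat :=
  if (gram.getD i 0).testBit j then [qIds.getD j 0, qIds.getD i 0, 4] else [qIds.getD j 0, qIds.getD i 0]

/-- the commutation of one generator with all -/
noncomputable def gramOK (i : Nat) : Bool :=
  sameM [qIds.getD i 0, qIds.getD i 0] [] &&
    sameM [23, 23, qIds.getD i 0, 23] (omConj.getD i []) &&
    (List.range 12).all fun j => sameM [qIds.getD i 0, qIds.getD j 0] (pairW i j)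

theorem gram0_ok : gramOK 0 = true := by decide +kernel
theorem gram1_ok : gramOK 1 = true := by decide +kernel
theorem gram2_ok : gramOK 2 = true := by decide +kernel
theorem gram3_ok : gramOK 3 = true := by decide +kernel
theorem gram4_ok : gramOK 4 = true := by decide +kernel
theorem gram5_ok : gramOK 5 = true := by decide +kernel
theorem gram6_ok : gramOK 6 = true := by decide +kernel
theorem gram7_ok : gramOK 7 = true := by decide +kernel
theorem gram8_ok : gramOK 8 = true := by decide +kernel
theorem gram9_ok : gramOK 9 = true := by decide +kernel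
theorem gram10_ok : gramOK 10 = true := by decide +kernel
theorem gram11_ok : gramOK 11 = true := by decide +kernel

theorem gram_ok (i : Nat) (hi : i < 12) : gramOK i = true := by
  interval_cases i
  · exact gram0_ok
  · exact gram1_ok
  · exact gram2_ok
  · exact gram3_ok
  · exact gram4_ok
  · exact gram5_ok
  · exact gram6_ok
  · exact gram7_ok
  · exact gram8_ok
  · exact gram9_ok
  · exact gram10_ok
  · exact gram11_ok

theorem om_ok : (sameM [23, 23, 23] [] && !Nat.beq (app [23] uInj) uInj) = true := by decide +kernel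

theorem omConj_mem : ((List.range 12).all fun i => (omConj.getD i []).all fun x =>
    Nat.beq x 4 || qIds.contains x) = true := by decide +kernel

theorem qIds_cen : ∀ x ∈ qIds, x ∈ cenIds := by decide

variable [Faith]

theorem El_four : El [4] = z := by
  rw [z, e, show eWL eIds 1 = [4] by decide]

/-- a generator -/
noncomputable def q (i : Nat) : Cfsg.Spor.J4 := El [qIds.getD i 0]

/-- the element of order three -/
noncomputable def om : Cfsg.Spor.J4 := El [23]

/-- the generators of the extraspecial group -/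
def QS : Set Cfsg.Spor.J4 := {g | g = z ∨ ∃ i < 12, q i = g}

/-- the extraspecial group -/
noncomputable def Qs : Subgroup Cfsg.Spor.J4 := Subgroup.closure QS

theorem qId_cen {i : Nat} (hi : i < 12) : qIds.getD i 0 ∈ cenIds := by
  interval_cases i <;> decide

theorem q_comm_z (i : Nat) (hi : i < 12) : q i * z = z * q i := El_comm_z (qId_cen hi)

theorem q_sq (i : Nat) (hi : i < 12) : q i * q i = 1 := by
  have h := gram_ok i hi
  simp only [gramOK, Bool.and_eq_true] at h
  have hlt := cenIds_lt _ (qId_cen hi)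
  revert h
  rw [q]
  generalize qIds.getD i 0 = a at hlt ⊢
  intro h
  rw [← El_append, ← El_nil]
  refine El_eq_of_sameM ?_
  simp only [List.singleton_append, Bool.and_eq_true, lt36_iff]
  exact ⟨⟨by simp [hlt], by simp⟩, h.1.1⟩

theorem q_swap (i j : Nat) (hi : i < 12) (hj : j < 12) :
    q j * q i = if (gram.getD i 0).testBit j then z * (q i * q j) else q i * q j := by
  have h := gram_ok i hi
  simp only [gramOK, Bool.and_eq_true, List.all_eq_true, List.mem_range] at h
  have hh := h.2 j hj
  have hlt := cenIds_lt _ (qId_cen hi)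
  have hlt' := cenIds_lt _ (qId_cen hj)
  rw [pairW] at hh
  revert hh
  rw [q, q]
  generalize qIds.getD i 0 = a at hlt ⊢
  generalize qIds.getD j 0 = b at hlt' ⊢
  intro hh
  have e := El_eq_of_sameM (u := [a, b]) (w := if (gram.getD i 0).testBit j then [b, a, 4] else [b, a]) (by
    simp only [Bool.and_eq_true, lt36_iff]
    exact ⟨⟨by simp [hlt, hlt'], by split <;> simp [hlt, hlt']⟩, hh⟩)
  rw [show [a, b] = [a] ++ [b] from rfl, El_append] at e
  rw [e]
  split
  · rw [show [b, a, 4] = [b] ++ ([a] ++ [4]) from rfl, El_append, El_append, El_four, mul_assoc]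
  · rw [show [b, a] = [b] ++ [a] from rfl, El_append]

theorem z_mem_Qs : z ∈ Qs := Subgroup.subset_closure (Or.inl rfl)

theorem q_mem {i : Nat} (hi : i < 12) : q i ∈ Qs := Subgroup.subset_closure (Or.inr ⟨i, hi, rfl⟩)

theorem z_central {g : Cfsg.Spor.J4} (hg : g ∈ Qs) : g * z = z * g := by
  induction hg using Subgroup.closure_induction with
  | mem g hg =>
    rcases hg with rfl | ⟨i, hi, rfl⟩
    · rfl
    · exact q_comm_z i hi
  | one => simp
  | mul a b _ _ ha hb => rw [mul_assoc, hb, ← mul_assoc, ha, mul_assoc]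
  | inv a _ ha => exact (Commute.inv_left (show Commute a z from ha)).eq

theorem zz : z * z = 1 := e_sq 1

theorem z_ne : z ≠ 1 := fun h => absurd (e_eq_one (show 1 < 2 ^ 11 by norm_num) h) (by norm_num)

theorem comm_gen {g : Cfsg.Spor.J4} (hg : g ∈ Qs) (j : Nat) (hj : j < 12) :
    g * q j = q j * g ∨ g * q j = z * (q j * g) := by
  induction hg using Subgroup.closure_induction with
  | mem g hg =>
    rcases hg with rfl | ⟨i, hi, rfl⟩
    · exact Or.inl (q_comm_z j hj).symm
    · have := q_swap j i hj hi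
      split at this
      · exact Or.inr this
      · exact Or.inl this
  | one => simp
  | mul a b ha _ iha ihb =>
    have hz := z_central ha
    rcases iha with e1 | e1 <;> rcases ihb with e2 | e2
    · left; rw [mul_assoc, e2, ← mul_assoc, e1, mul_assoc]
    · right; rw [mul_assoc, e2, ← mul_assoc, hz, mul_assoc, ← mul_assoc a, e1, mul_assoc]
    · right; rw [mul_assoc, e2, ← mul_assoc, e1, mul_assoc, mul_assoc]
    · left; rw [mul_assoc, e2, ← mul_assoc, hz, mul_assoc, ← mul_assoc a, e1, mul_assoc, ← mul_assoc z,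
        zz, one_mul, mul_assoc]
  | inv a ha iha =>
    rcases iha with e1 | e1
    · left; exact (Commute.inv_left (show Commute a (q j) from e1)).eq
    · right
      have hz := z_central ((Qs).inv_mem ha)
      have e2 : q j * a = z * (a * q j) := by rw [e1, ← mul_assoc, zz, one_mul]
      calc a⁻¹ * q j = a⁻¹ * (q j * a) * a⁻¹ := by group
        _ = a⁻¹ * z * (a * q j) * a⁻¹ := by rw [e2, ← mul_assoc a⁻¹ z]
        _ = z * (q j * a⁻¹) := by rw [hz]; group

theorem comm_all {a b : Cfsg.Spor.J4} (ha : a ∈ Qs) (hb : b ∈ Qs) :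
    a * b = b * a ∨ a * b = z * (b * a) := by
  induction hb using Subgroup.closure_induction with
  | mem g hg =>
    rcases hg with rfl | ⟨i, hi, rfl⟩
    · exact Or.inl (z_central ha)
    · exact comm_gen ha i hi
  | one => simp
  | mul b c hb _ ihb ihc =>
    have hz := z_central hb
    rcases ihb with e1 | e1 <;> rcases ihc with e2 | e2
    · left; rw [← mul_assoc, e1, mul_assoc, e2, mul_assoc]
    · right; rw [← mul_assoc, e1, mul_assoc, e2, ← mul_assoc, hz, mul_assoc, mul_assoc b c a]
    · right; rw [← mul_assoc, e1, mul_assoc z, mul_assoc b, e2, mul_assoc b c a]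
    · left
      rw [← mul_assoc, e1, mul_assoc z, mul_assoc b, e2, ← mul_assoc b z, hz, mul_assoc z b, ← mul_assoc z,
        zz, one_mul, mul_assoc b c a]
  | inv b hb ihb =>
    rcases ihb with e1 | e1
    · left; exact (Commute.inv_right (show Commute a b from e1)).eq
    · right
      have hz := z_central ((Qs).inv_mem hb)
      calc a * b⁻¹ = b⁻¹ * (b * a) * b⁻¹ := by group
        _ = b⁻¹ * (z * (a * b)) * b⁻¹ := by rw [e1, ← mul_assoc z z, zz, one_mul]
        _ = z * (b⁻¹ * a) := by rw [← mul_assoc b⁻¹ z, hz]; group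

theorem sq_all {a : Cfsg.Spor.J4} (ha : a ∈ Qs) : a * a = 1 ∨ a * a = z := by
  induction ha using Subgroup.closure_induction with
  | mem g hg =>
    rcases hg with rfl | ⟨i, hi, rfl⟩
    · exact Or.inl zz
    · exact Or.inl (q_sq i hi)
  | one => simp
  | mul a b ha hb iha ihb =>
    have hz := z_central ha
    have e : (a * b) * (a * b) = (a * a) * (b * b) ∨ (a * b) * (a * b) = z * ((a * a) * (b * b)) := by
      rcases comm_all hb ha with e1 | e1
      · left; rw [mul_assoc a b, ← mul_assoc b, e1]; group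
      · right; rw [mul_assoc a b, ← mul_assoc b, e1, ← mul_assoc a, ← mul_assoc a z, hz]; group
    rcases e with e | e <;> rcases iha with e1 | e1 <;> rcases ihb with e2 | e2 <;>
      simp [e, e1, e2, zz]
  | inv a ha iha =>
    rcases iha with e1 | e1
    · left; rw [← mul_inv_rev, e1, inv_one]
    · right; rw [← mul_inv_rev, e1, inv_eq_of_mul_eq_one_right zz]

open Classical in
/-- the commutation with the generators -/
noncomputable def χ : Qs →* Multiplicative (Fin 12 → ZMod 2) where
  toFun g := Multiplicative.ofAdd fun j => if (g : Cfsg.Spor.J4) * q j = q j * g then 0 else 1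
  map_one' := by
    refine congrArg Multiplicative.ofAdd (funext fun j => ?_)
    simp
  map_mul' a b := by
    rw [← ofAdd_add]
    refine congrArg Multiplicative.ofAdd (funext fun j => ?_)
    simp only [Pi.add_apply, Subgroup.coe_mul]
    have hz := z_central a.2
    have hne : ∀ g : Cfsg.Spor.J4, z * g ≠ g := fun g h => z_ne (mul_eq_right.1 h)
    rcases comm_gen a.2 j j.2 with e1 | e1 <;> rcases comm_gen b.2 j j.2 with e2 | e2
    · rw [if_pos, if_pos e1, if_pos e2, add_zero]
      rw [mul_assoc, e2, ← mul_assoc, e1, mul_assoc]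
    · rw [if_neg, if_pos e1, if_neg (e2 ▸ hne _), zero_add]
      rw [mul_assoc, e2, ← mul_assoc, hz, mul_assoc, ← mul_assoc (a : Cfsg.Spor.J4), e1, mul_assoc]
      exact hne _
    · rw [if_neg, if_neg (e1 ▸ hne _), if_pos e2, add_zero]
      rw [mul_assoc, e2, ← mul_assoc, e1, mul_assoc, mul_assoc]
      exact hne _
    · rw [if_pos, if_neg (e1 ▸ hne _), if_neg (e2 ▸ hne _)]
      · exact (show (0 : ZMod 2) = 1 + 1 by decide)
      rw [mul_assoc, e2, ← mul_assoc, hz, mul_assoc, ← mul_assoc (a : Cfsg.Spor.J4), e1, mul_assoc,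
        ← mul_assoc z, zz, one_mul, mul_assoc]

omit [Faith] in
/-- the vector of a row -/
def rowV (a : Nat) : Multiplicative (Fin 12 → ZMod 2) :=
  Multiplicative.ofAdd fun j => if a.testBit j then 1 else 0

omit [Faith] in
theorem rowV_xor (a b : Nat) : rowV (a ^^^ b) = rowV a * rowV b := by
  rw [rowV, rowV, rowV, ← ofAdd_add]
  refine congrArg Multiplicative.ofAdd (funext fun j => ?_)
  simp only [Nat.testBit_xor, Pi.add_apply]
  cases a.testBit j <;> cases b.testBit j <;> decide

theorem χ_surjective : Function.Surjective χ := by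
  have hgen : ∀ i < 12, ∃ x, χ x = rowV (gram.getD i 0) := fun i hi => ⟨⟨q i, q_mem hi⟩, by
    refine congrArg Multiplicative.ofAdd (funext fun j => ?_)
    have := q_swap i j hi j.2
    simp only
    cases hb : (gram.getD i 0).testBit j
    · rw [hb, if_neg (by simp)] at this
      rw [if_pos this.symm]; simp
    · rw [hb, if_pos rfl] at this
      rw [if_neg fun h => z_ne (mul_eq_right.1 (this.symm.trans h.symm)), if_pos rfl]⟩
  have h0 : ∃ x, χ x = rowV 0 := ⟨1, (map_one χ).trans
    (congrArg Multiplicative.ofAdd (funext fun j => by simp))⟩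
  have hdot : ∀ (l : List Nat), (∀ r ∈ l, ∃ x, χ x = rowV r) → ∀ c, ∃ x, χ x = rowV (dot l c) := by
    intro l
    induction l with
    | nil => intro _ c; exact h0
    | cons r l ih =>
      intro h c
      simp only [List.forall_mem_cons] at h
      obtain ⟨x, hx⟩ := ih h.2 (c >>> 1)
      rcases Nat.mod_two_eq_zero_or_one c with hc | hc
      · refine ⟨x, ?_⟩
        rw [dot_cons, show sel c r = 0 by show (c &&& 1) * r = 0; simp [Nat.and_one_is_mod, hc],
          Nat.zero_xor, hx]
      · obtain ⟨y, hy⟩ := h.1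
        refine ⟨y * x, ?_⟩
        rw [map_mul, hx, hy, dot_cons,
          show sel c r = r by show (c &&& 1) * r = r; simp [Nat.and_one_is_mod, hc], rowV_xor]
  have hrows : ∀ r ∈ gram, ∃ x, χ x = rowV r := fun r hr => by
    obtain ⟨i, hi, rfl⟩ := List.getElem_of_mem hr
    rw [← List.getD_eq_getElem (d := 0) gram hi]
    exact hgen i hi
  have hunit : ∀ j < 12, ∃ x, χ x = rowV (2 ^ j) := fun j hj => by
    have := List.all_eq_true.1 gramInv_ok j (List.mem_range.2 hj)
    rw [← Nat.eq_of_beq_eq_true this]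
    exact hdot gram hrows _
  intro v
  have hv : v = ∏ j : Fin 12, (rowV (2 ^ (j : ℕ))) ^ (Multiplicative.toAdd v j).val := by
    refine Multiplicative.toAdd.injective (funext fun i => ?_)
    rw [toAdd_prod, Finset.sum_apply, Finset.sum_eq_single i]
    · simp [rowV, Nat.testBit_two_pow]
    · intro j _ hj
      have hne : ¬ (j : ℕ) = i := fun h => hj (Fin.ext h)
      simp [rowV, Nat.testBit_two_pow, hne]
    · simp
  rw [hv]
  have : ∀ j : Fin 12, rowV (2 ^ (j : ℕ)) ∈ χ.range := fun j => hunit j j.2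
  exact Subgroup.prod_mem _ fun j _ => Subgroup.pow_mem _ (this j) _

omit [Faith] in
/-- adding an involution normalising a subgroup at most doubles the order -/
theorem card_step [Finite Cfsg.Spor.J4] (H : Subgroup Cfsg.Spor.J4) (a : Cfsg.Spor.J4) (ha : a * a = 1)
    (hn : ∀ h ∈ H, a * h * a⁻¹ ∈ H) :
    Nat.card (H ⊔ Subgroup.zpowers a : Subgroup Cfsg.Spor.J4) ≤ Nat.card H * 2 := by
  have hle : Subgroup.zpowers a ≤ Subgroup.normalizer (H : Set Cfsg.Spor.J4) := by
    rw [Subgroup.zpowers_le, Subgroup.mem_normalizer_iff]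
    refine fun h => ⟨hn h, fun h' => ?_⟩
    have := hn _ h'
    rw [inv_eq_of_mul_eq_one_right ha] at this
    rwa [← mul_assoc, ← mul_assoc, ha, one_mul, mul_assoc, ha, mul_one] at this
  have e : ((H ⊔ Subgroup.zpowers a : Subgroup Cfsg.Spor.J4) : Set Cfsg.Spor.J4) =
      (H : Set Cfsg.Spor.J4) * (Subgroup.zpowers a : Set Cfsg.Spor.J4) :=
    Subgroup.coe_mul_of_right_le_normalizer_left _ _ hle
  show Nat.card ((H ⊔ Subgroup.zpowers a : Subgroup Cfsg.Spor.J4) : Set Cfsg.Spor.J4) ≤ _
  rw [e]
  refine (Set.natCard_mul_le).trans (Nat.mul_le_mul_left _ ?_)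
  show Nat.card (Subgroup.zpowers a) ≤ 2
  rw [Nat.card_zpowers]
  exact Nat.le_of_dvd (by norm_num) (orderOf_dvd_of_pow_eq_one (by rw [pow_two, ha]))

theorem card_le [Finite Cfsg.Spor.J4] : Nat.card Qs ≤ 8192 := by
  let P : Nat → Subgroup Cfsg.Spor.J4 := fun n =>
    Subgroup.closure {g | g = z ∨ ∃ i < n, q i = g}
  have hP : ∀ n ≤ 12, Nat.card (P n) ≤ 2 ^ (n + 1) := by
    intro n
    induction n with
    | zero =>
      intro _
      have : P 0 = Subgroup.zpowers z := by
        rw [Subgroup.zpowers_eq_closure]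
        exact congrArg Subgroup.closure (Set.ext fun g => by simp)
      rw [this, Nat.card_zpowers]
      exact Nat.le_of_dvd (by norm_num) (orderOf_dvd_of_pow_eq_one (show z ^ 2 = 1 by rw [pow_two]; exact zz))
    | succ n ih =>
      intro hn
      have hsub : P n ≤ Qs := Subgroup.closure_mono fun g hg =>
        hg.imp id fun ⟨i, hi, e⟩ => ⟨i, by omega, e⟩
      have hnorm : ∀ h ∈ P n, q n * h * (q n)⁻¹ ∈ P n := fun h hh => by
        rcases comm_gen (hsub hh) n (by omega) with e | e
        · rw [← e, mul_inv_cancel_right]; exact hh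
        · have e' : q n * h = z * (h * q n) := by rw [e, ← mul_assoc, zz, one_mul]
          rw [e', mul_assoc, mul_inv_cancel_right]
          exact mul_mem (Subgroup.subset_closure (Or.inl rfl)) hh
      have hstep := card_step (P n) (q n) (q_sq n (by omega)) hnorm
      refine le_trans (Subgroup.card_le_of_le ?_) (hstep.trans ?_)
      · refine (Subgroup.closure_le _).2 ?_
        rintro g (rfl | ⟨i, hi, rfl⟩)
        · exact le_sup_left (a := P n) (Subgroup.subset_closure (Or.inl rfl))
        · rcases Nat.lt_succ_iff_lt_or_eq.1 hi with h | rfl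
          · exact le_sup_left (a := P n) (Subgroup.subset_closure (Or.inr ⟨i, h, rfl⟩))
          · exact le_sup_right (b := Subgroup.zpowers (q i)) (Subgroup.mem_zpowers _)
      · rw [pow_succ 2 (n + 1)]
        exact Nat.mul_le_mul_right 2 (ih (by omega))
  exact hP 12 le_rfl

theorem Qs_spec [Finite Cfsg.Spor.J4] : Nat.card Qs = 8192 ∧
    ∀ d ∈ Qs, (∀ g ∈ Qs, g * d = d * g) → d = 1 ∨ d = z := by
  have hc : Nat.card χ.range = 4096 := by
    rw [MonoidHom.range_eq_top.2 χ_surjective, Subgroup.card_top]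
    simp
  have hmul := χ.ker.card_mul_index
  rw [Subgroup.index_ker, hc] at hmul
  have hzk : (⟨z, z_mem_Qs⟩ : Qs) ∈ χ.ker := by
    rw [MonoidHom.mem_ker]
    refine congrArg Multiplicative.ofAdd (funext fun j => ?_)
    simp [q_comm_z j j.2]
  have h2 : 2 ≤ Nat.card χ.ker :=
    Finite.one_lt_card_iff_nontrivial.2 ⟨⟨⟨_, hzk⟩, 1, fun h => z_ne
      (congrArg (fun x : χ.ker => (x.1 : Cfsg.Spor.J4)) h)⟩⟩
  have hle := card_le
  refine ⟨by omega, fun d hd hcen => ?_⟩
  have hdk : (⟨d, hd⟩ : Qs) ∈ χ.ker := by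
    rw [MonoidHom.mem_ker]
    refine congrArg Multiplicative.ofAdd (funext fun j => ?_)
    simp [(hcen _ (q_mem j.2)).symm]
  have hk : Nat.card χ.ker = 2 := by omega
  obtain ⟨u, hu⟩ := (Nat.card_eq_two_iff' (1 : χ.ker)).1 hk
  by_cases h1 : d = 1
  · exact Or.inl h1
  · right
    have e1 := hu.2 ⟨_, hdk⟩ fun h => h1 (congrArg (fun x : χ.ker => (x.1 : Cfsg.Spor.J4)) h)
    have e2 := hu.2 ⟨_, hzk⟩ fun h => z_ne (congrArg (fun x : χ.ker => (x.1 : Cfsg.Spor.J4)) h)
    exact congrArg (fun x : χ.ker => (x.1 : Cfsg.Spor.J4)) (e1.trans e2.symm)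

theorem om_cube : om ^ 3 = 1 := by
  have h := om_ok
  simp only [Bool.and_eq_true] at h
  rw [pow_three, om, ← El_append, ← El_append, ← El_nil]
  refine El_eq_of_sameM ?_
  simp only [List.singleton_append, List.cons_append, List.nil_append, Bool.and_eq_true]
  exact ⟨⟨rfl, rfl⟩, h.1⟩

theorem om_ne : om ≠ 1 := fun h => by
  have h' := om_ok
  simp only [Bool.and_eq_true, Bool.not_eq_true'] at h'
  have := π_El (w := [23]) rfl ⟨uInj, by decide⟩
  rw [show El [23] = om from rfl, h, map_one, Equiv.Perm.one_apply] at this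
  have h2 := h'.2
  rw [← this, Nat.beq_refl] at h2
  exact absurd h2 (by decide)

theorem om_comm : om * z = z * om := El_comm_z (by decide)

theorem El_mem_Qs : ∀ {w : List Nat}, (∀ x ∈ w, x = 4 ∨ x ∈ qIds) → El w ∈ Qs := by
  intro w
  induction w with
  | nil => intro _; rw [El_nil]; exact one_mem _
  | cons x w ih =>
    intro h
    simp only [List.forall_mem_cons] at h
    rw [El_cons]
    refine mul_mem (ih h.2) ?_
    rcases h.1 with rfl | hx
    · rw [El_four]; exact z_mem_Qs
    · obtain ⟨i, hi, rfl⟩ := List.getElem_of_mem hx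
      rw [← List.getD_eq_getElem (d := 0) qIds hi]
      exact q_mem hi

theorem om_conj {g : Cfsg.Spor.J4} (hg : g ∈ Qs) : om * g * om⁻¹ ∈ Qs := by
  induction hg using Subgroup.closure_induction with
  | mem g hg =>
    rcases hg with rfl | ⟨i, hi, rfl⟩
    · rw [om_comm, mul_inv_cancel_right]; exact z_mem_Qs
    · have h := gram_ok i hi
      simp only [gramOK, Bool.and_eq_true] at h
      have hlt := cenIds_lt _ (qId_cen hi)
      have hw : ∀ x ∈ omConj.getD i [], x = 4 ∨ x ∈ qIds := by
        have := List.all_eq_true.1 omConj_mem i (List.mem_range.2 hi)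
        simpa [List.all_eq_true] using this
      have e : El [23, 23, qIds.getD i 0, 23] = El (omConj.getD i []) := by
        have h36 : lt36 (omConj.getD i []) = true := lt36_iff.2 fun x hx => by
          rcases hw x hx with rfl | h
          · norm_num
          · exact cenIds_lt _ (qIds_cen x h)
        revert h
        generalize qIds.getD i 0 = a at hlt ⊢
        intro h
        refine El_eq_of_sameM ?_
        simp only [Bool.and_eq_true, lt36_iff]
        exact ⟨⟨by simp [hlt], lt36_iff.1 h36⟩, h.1.2⟩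
      have e2 : El [23, 23, qIds.getD i 0, 23] = om * q i * (om * om) := by
        rw [show ([23, 23, qIds.getD i 0, 23] : List Nat) =
          ([23] ++ [23]) ++ ([qIds.getD i 0] ++ [23]) from rfl, El_append, El_append, El_append]
        rfl
      have hinv : om⁻¹ = om * om := inv_eq_of_mul_eq_one_right (by rw [← pow_three]; exact om_cube)
      rw [hinv, ← e2, e]
      exact El_mem_Qs hw
  | one => simp
  | mul a b _ _ ha hb =>
    have : om * (a * b) * om⁻¹ = (om * a * om⁻¹) * (om * b * om⁻¹) := by group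
    rw [this]; exact mul_mem ha hb
  | inv a _ ha =>
    have : om * a⁻¹ * om⁻¹ = (om * a * om⁻¹)⁻¹ := by group
    rw [this]; exact inv_mem ha

/-- the normal subgroup of order 24576 -/
noncomputable def Ns : Subgroup Cfsg.Spor.J4 := Qs ⊔ Subgroup.zpowers om

theorem zpowers_om_le : Subgroup.zpowers om ≤ Subgroup.normalizer (Qs : Set Cfsg.Spor.J4) := by
  rw [Subgroup.zpowers_le, Subgroup.mem_normalizer_iff]
  refine fun h => ⟨om_conj, fun h' => ?_⟩
  have h3 := om_conj (om_conj h')
  have hinv : om⁻¹ = om * om := inv_eq_of_mul_eq_one_right (by rw [← pow_three]; exact om_cube)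
  have : om * (om * (om * h * om⁻¹) * om⁻¹) * om⁻¹ = h := by
    calc _ = (om * (om * om)) * h * (om * (om * om))⁻¹ := by group
      _ = h := by rw [← pow_three, om_cube]; group
  rwa [this] at h3

theorem Ns_spec [Finite Cfsg.Spor.J4] : Nat.card Ns = 24576 ∧
    ∀ x ∈ Ns, x ∈ Qs ↔ x ^ 4 = 1 := by
  have ho : orderOf om = 3 := by
    have : Fact (Nat.Prime 3) := ⟨by norm_num⟩
    exact orderOf_eq_prime om_cube om_ne
  have hq4 : ∀ x ∈ Qs, x ^ 4 = 1 := fun x hx => by
    rw [show (4 : ℕ) = 2 * 2 from rfl, pow_mul, pow_two x]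
    rcases sq_all hx with h | h <;> rw [h]
    · simp
    · rw [pow_two, zz]
  have hdis : Disjoint Qs (Subgroup.zpowers om) := by
    rw [Subgroup.disjoint_def]
    intro x hx hy
    have h3 : x ^ 3 = 1 := by
      have h := pow_card_eq_one' (G := Subgroup.zpowers om) (x := ⟨x, hy⟩)
      rw [Nat.card_zpowers, ho] at h
      simpa using congrArg Subtype.val h
    have h4 := hq4 x hx
    rw [pow_succ, h3, one_mul] at h4
    exact h4
  have eN : ((Ns : Subgroup Cfsg.Spor.J4) : Set Cfsg.Spor.J4) =
      (Qs : Set Cfsg.Spor.J4) * (Subgroup.zpowers om : Set Cfsg.Spor.J4) :=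
    Subgroup.coe_mul_of_right_le_normalizer_left _ _ zpowers_om_le
  let f : Qs × Subgroup.zpowers om → Ns := fun p =>
    ⟨p.1.1 * p.2.1, mul_mem (le_sup_left (a := Qs) p.1.2) (le_sup_right (a := Qs) p.2.2)⟩
  have hf : Function.Bijective f := by
    refine ⟨fun a b h => Subgroup.mul_injective_of_disjoint hdis (congrArg Subtype.val h), fun x => ?_⟩
    have hx : x.1 ∈ ((Ns : Subgroup Cfsg.Spor.J4) : Set Cfsg.Spor.J4) := x.2
    rw [eN] at hx
    obtain ⟨a, ha, b, hb, e⟩ := hx
    exact ⟨(⟨a, ha⟩, ⟨b, hb⟩), Subtype.ext e⟩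
  refine ⟨?_, fun x hx => ⟨hq4 x, fun h4 => ?_⟩⟩
  · rw [← Nat.card_eq_of_bijective f hf, Nat.card_prod, (Qs_spec).1, Nat.card_zpowers, ho]
  · obtain ⟨⟨⟨a, ha⟩, ⟨b, hb⟩⟩, e⟩ := hf.2 ⟨x, hx⟩
    have he : a * b = x := congrArg Subtype.val e
    let P : Subgroup Ns := Qs.subgroupOf Ns
    have : P.Normal := by
      refine ⟨fun p hp g => ?_⟩
      have hg : g.1 ∈ ((Ns : Subgroup Cfsg.Spor.J4) : Set Cfsg.Spor.J4) := g.2
      rw [eN] at hg
      obtain ⟨c, hc, d, hd, e'⟩ := hg
      rw [Subgroup.mem_subgroupOf] at hp ⊢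
      have h1 := ((Subgroup.mem_normalizer_iff.1 (zpowers_om_le hd)) p.1).1 hp
      have : (g * p * g⁻¹ : Ns).1 = c * (d * p.1 * d⁻¹) * c⁻¹ := by
        simp only [Subgroup.coe_mul, Subgroup.coe_inv, ← e']
        group
      rw [this]
      exact mul_mem (mul_mem hc h1) (inv_mem hc)
    have hidx : P.index = 3 := by
      have hmul := P.card_mul_index
      rw [Nat.card_congr (Subgroup.subgroupOfEquivOfLe (show Qs ≤ Ns from le_sup_left)).toEquiv,
        (Qs_spec).1, show Nat.card Ns = 24576 by
          rw [← Nat.card_eq_of_bijective f hf, Nat.card_prod, (Qs_spec).1, Nat.card_zpowers, ho]] at hmul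
      omega
    have h1 := P.pow_index_mem ⟨x, hx⟩
    rw [hidx] at h1
    have h2 : (⟨x, hx⟩ : Ns) ^ 4 = 1 := Subtype.ext (by simpa using h4)
    have h3 : (⟨x, hx⟩ : Ns) = ((⟨x, hx⟩ : Ns) ^ 3)⁻¹ := by
      rw [eq_inv_iff_mul_eq_one, ← pow_succ', h2]
    have h5 := P.inv_mem h1
    rw [← h3, Subgroup.mem_subgroupOf] at h5
    exact h5

end CfsgLib.Spor.J4Cent
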