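import Cfsg.Agent.Lib.Spor.J4Cent.Base
import Cfsg.Agent.Lib.Spor.J4.Finite
import Cfsg.Agent.Lib.Spor.J4Lower.Main

/-!
The action on the vectors is faithful: it is the representation of degree 112.
-/

set_option autoImplicit false
set_option maxRecDepth 100000
set_option maxHeartbeats 1000000

namespace CfsgLib.Spor.J4Cent

open CfsgLib.PresCert Cfsg.Spor Equiv CfsgLib.Spor.J4Rep

/-- a vector as a row over the field of two elements -/
def bvec (v : Nat) : Fin 112 → ZMod 2 := fun j => bz (v.testBit j)

theorem bz_xor (a b : Bool) : bz (xor a b) = bz a + bz b := by cases a <;> cases b <;> decide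

theorem bvec_xor (a b : Nat) : bvec (a ^^^ b) = bvec a + bvec b := by
  funext j; simp [bvec, Nat.testBit_xor, bz_xor]

theorem letters_agree : (Nat.beq (J4Cent.pack (rowsOf (tabAt tabs 0))) J4Rep.px &&
    Nat.beq (J4Cent.pack (rowsOf (tabAt tabs 1))) J4Rep.py && Nat.beq (J4Cent.pack (rowsOf (tabAt tabs 2))) J4Rep.pt &&
    Nat.beq (rowsOf (tabAt tabs 0)).length 112 && Nat.beq (rowsOf (tabAt tabs 1)).length 112 &&
    Nat.beq (rowsOf (tabAt tabs 2)).length 112) = true := by decide +kernel

theorem pack_testBit_row : ∀ {l : List Nat}, (∀ v ∈ l, v < 2 ^ 112) → ∀ i j : Nat, j < 112 →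
    (J4Cent.pack l).testBit (112 * i + j) = (l.getD i 0).testBit j := by
  intro l
  induction l with
  | nil => intro _ i j _; simp [J4Cent.pack]
  | cons v l ih =>
    intro h i j hj
    simp only [List.forall_mem_cons] at h
    rw [pack_testBit h.1]
    cases i with
    | zero => simp [hj]
    | succ i =>
      rw [if_neg (by omega), show 112 * (i + 1) + j - 112 = 112 * i + j by omega, ih h.2 i j hj,
        List.getD_cons_succ]

theorem bvec_dot : ∀ (rs : List Nat) (v : Nat),
    bvec (dot rs v) = ∑ i ∈ Finset.range rs.length, bz (v.testBit i) • bvec (rs.getD i 0) := by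
  intro rs
  induction rs with
  | nil => intro v; funext j; simp [dot_nil, bvec, bz]
  | cons r rs ih =>
    intro v
    rw [dot_cons, List.length_cons, Finset.sum_range_succ', bvec_xor, ih, add_comm]
    congr 1
    · exact Finset.sum_congr rfl fun i _ => by
        rw [List.getD_cons_succ, Nat.testBit_shiftRight, add_comm 1 i]
    · rw [List.getD_cons_zero]
      funext j
      cases h : v.testBit 0 <;>
        simp_all [sel, bvec, bz, Nat.testBit_zero, Nat.and_one_is_mod]

theorem bvec_tab {T : List Nat} (hT : tabOK T = true) (hl : (rowsOf T).length = 112) {P : Nat}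
    (hP : J4Cent.pack (rowsOf T) = P) (v : Nat) :
    bvec (vm T v) = Matrix.vecMul (bvec v) (toM 112 P) := by
  rw [vm_eq_dot hT, bvec_dot, hl, ← Fin.sum_univ_eq_sum_range
    (fun i => bz (v.testBit i) • bvec ((rowsOf T).getD i 0)) 112, Matrix.vecMul_eq_sum]
  refine Finset.sum_congr rfl fun i _ => ?_
  have hr : bvec ((rowsOf T).getD i 0) = toM 112 P i := by
    funext j
    rw [toM, ← hP, pack_testBit_row (fun r hr => by
      simp only [rowsOf, List.mem_flatMap, grpRows] at hr
      obtain ⟨N, -, hr⟩ := hr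
      simp only [List.mem_cons, List.not_mem_nil, or_false] at hr
      rcases hr with rfl | rfl | rfl | rfl <;> exact ent_lt _ _) _ _ j.2]
    rfl
  rw [hr]
  rfl

/-- the elements whose action is the matrix action -/
noncomputable def Agree : Subgroup Cfsg.Spor.J4 where
  carrier := {g | ∀ v : V, bvec ((π g⁻¹ v : V) : Nat) =
    Matrix.vecMul (bvec v.1) ((rep g : GL (Fin 112) (ZMod 2)) : Matrix _ _ _)}
  one_mem' := fun v => by rw [inv_one, map_one, Perm.one_apply, map_one, Units.val_one, Matrix.vecMul_one]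
  mul_mem' := fun {g h} hg hh v => by
    rw [mul_inv_rev, map_mul, Perm.mul_apply, hh, hg, map_mul, Units.val_mul, Matrix.vecMul_vecMul]
  inv_mem' := fun {g} hg v => by
    have h := hg (π g v)
    rw [map_inv, Perm.inv_def, Equiv.symm_apply_apply] at h
    rw [inv_inv, h, Matrix.vecMul_vecMul, ← Units.val_mul, map_inv, mul_inv_cancel, Units.val_one,
      Matrix.vecMul_one]

theorem π_injective' : Function.Injective π := by
  have hfin := CfsgLib.Spor.J4.finite
  have hinj : Function.Injective rep :=
    (J4Lower.natCard_and_injective CfsgLib.Spor.J4.natCard_le).2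
  have hla := letters_agree
  simp only [Bool.and_eq_true, Nat.beq_eq] at hla
  obtain ⟨⟨⟨⟨⟨ha, hb⟩, hc⟩, la⟩, lb⟩, lc⟩ := hla
  have hgen : ∀ (g : J4.Gen) (i : Nat) (P : Nat), i < 4 → lets gen i = gen g →
      J4Cent.pack (rowsOf (tabAt tabs i)) = P → (rowsOf (tabAt tabs i)).length = 112 →
      (gU g : Matrix (Fin 112) (Fin 112) (ZMod 2)) = toM 112 P → gen g ∈ Agree := by
    intro g i P hi hl hP hlen hM v
    rw [← hl, map_inv, π_lets, lets_perm hi, stp_val hi, hl]
    rw [show ((rep (gen g) : GL (Fin 112) (ZMod 2)) : Matrix _ _ _) = toM 112 P from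
      (congrArg Units.val (PresentedGroup.toGroup.of _)).trans hM, app, appW_cons, appW_nil]
    exact bvec_tab (tabAt_ok i).1 hlen hP v.1
  have htop : (⊤ : Subgroup Cfsg.Spor.J4) ≤ Agree := by
    rw [← PresentedGroup.closure_range_of, Subgroup.closure_le]
    rintro _ ⟨x, rfl⟩
    cases x
    · exact hgen .x 0 J4Rep.px (by omega) rfl ha la rfl
    · exact hgen .y 1 J4Rep.py (by omega) rfl hb lb rfl
    · exact hgen .t 2 J4Rep.pt (by omega) rfl hc lc rfl
  refine (injective_iff_map_eq_one π).2 fun g hg => hinj ?_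
  rw [map_one]
  refine Units.ext ?_
  ext i j
  have h := congrFun (htop (Subgroup.mem_top g) ⟨2 ^ (i : ℕ), Nat.pow_lt_pow_right one_lt_two i.2⟩) j
  have hb : bvec (2 ^ (i : ℕ)) = Pi.single i 1 := by
    funext k
    rcases eq_or_ne k i with rfl | hk
    · simp [bvec, bz, Nat.testBit_two_pow_self]
    · simp [bvec, bz, hk, Nat.testBit_two_pow_of_ne (fun e => hk (Fin.ext e.symm))]
  rw [map_inv, hg, inv_one, Perm.one_apply, hb, Matrix.single_one_vecMul] at h
  rw [Units.val_one, Matrix.one_apply]
  simp only [Matrix.row] at h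
  rw [← h, Pi.single_apply]
  simp [eq_comm]

instance : Faith := ⟨π_injective'⟩

end CfsgLib.Spor.J4Cent
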