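import Cfsg.Agent.Lib.Spor.J4Cent.Upper
import Cfsg.Agent.Lib.Spor.J4.Index.Cover

/-!
The facts needed for the involution centraliser follow from the double coset certificate.
-/

set_option autoImplicit false
set_option maxRecDepth 100000
set_option maxHeartbeats 1000000

namespace CfsgLib.Spor.J4Cent

open Cfsg.Spor CfsgLib.Spor.J4

/-- words moving the base trio to the trios of the node definitions -/
def nodeU : List (List ℕ) :=
  [[2, 0, 3, 0, 2, 0, 3, 0, 3, 0, 2, 0, 2, 0, 3, 0, 3, 0, 2, 0, 2, 0, 2, 0, 2, 0, 2],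
   [2, 0, 3, 0, 3, 0, 2, 0, 3, 0, 2, 0, 2, 0],
   [3, 0, 2, 0, 2, 0, 3, 0, 3, 0, 2, 0],
   [3, 0, 3, 0, 3, 0, 3, 0, 2, 0, 2, 0, 2, 0, 3, 0, 3, 0, 3, 0, 3, 0, 2],
   [3, 0, 2, 0, 2, 0, 2, 0, 2, 0, 2, 0, 2, 0, 3, 0, 2, 0, 3],
   [2, 0, 3, 0, 2, 0, 3, 0, 3, 0, 2, 0, 2],
   [2, 0, 3, 0, 3, 0, 2, 0, 2, 0, 3, 0, 3, 0, 3, 0, 2],
   [2, 0, 3, 0, 3, 0, 3, 0, 3, 0, 2, 0, 2],
   [3, 0, 3, 0, 2, 0, 3, 0, 3, 0, 3, 0, 2, 0, 2, 0, 3, 0, 2, 0],
   [2, 0, 3, 0, 2, 0, 3, 0, 3, 0, 2, 0, 3, 0],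
   [2, 0, 2, 0, 2, 0, 2, 0, 2, 0, 2, 0, 2, 0, 3, 0, 2, 0, 2],
   [3, 0, 2, 0, 2, 0, 2, 0, 2, 0, 2, 0, 3, 0, 2, 0, 3],
   [3, 0, 3, 0, 2, 0, 2, 0, 2, 0, 2, 0, 3, 0, 3],
   [2, 0, 2, 0, 2, 0, 2, 0, 2, 0, 3, 0, 2, 0, 3, 0, 3, 0, 3, 0, 2, 0, 2, 0, 2],
   [3, 0, 3, 0, 2, 0, 3, 0, 2, 0, 2, 0, 2, 0, 3, 0, 2, 0, 3, 0, 3, 0, 2, 0],
   [2, 0, 3, 0, 3, 0, 2, 0, 2, 0, 3, 0, 3, 0, 3, 0, 3, 0, 2, 0, 2, 0],
   [3, 0, 3, 0, 2, 0, 3, 0, 3, 0, 3, 0, 2],
   [3, 0, 2, 0, 2, 0, 3, 0, 2, 0, 2, 0, 2, 0, 3, 0, 3, 0, 2, 0, 3],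
   [3, 0, 3, 0, 3, 0, 3, 0, 2, 0, 3, 0, 3, 0, 2]]

/-- change of numbering of the letters -/
def trL : ℕ → ℕ
  | 2 => 1 | 3 => 3 | _ => 0

/-- a word in the numbering of this folder -/
def trW (w : List ℕ) : List ℕ := w.map trL

theorem nodes_ok : ((List.range 19).all fun k =>
    (nodeU.getD k []).all (fun l => Nat.beq l 0 || Nat.beq l 2 || Nat.beq l 3) &&
    Index.moveTo (pWord (Index.winv (nodeU.getD k []))) Index.baseTrio (Index.defC (k + 1)) &&
    (reps.getD (k + 1) [] == reps.getD (Index.defI (k + 1)) [] ++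
      (trW (Index.winv (nodeU.getD k [])) ++ [2] ++ trW (nodeU.getD k []))) &&
    Nat.blt (Index.defI (k + 1)) (k + 1)) = true := by decide +kernel

/-- the word of the third generator of the point stabiliser -/
def gsW : List ℕ :=
  let w := [1] ++ trW (Index.winv Index.wH) ++ [2] ++ trW Index.wH
  w ++ w ++ w

theorem gs_ok : sameM (eWL eIds 1 ++ gsW) [] = true := by decide +kernel

theorem gsW_lt : lt36 gsW = true := by decide +kernel

theorem vals_small {i : ℕ} (hi : i < 4) : vals.getD i 1 = lets gen i := by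
  interval_cases i <;> rfl

theorem gx_eq : Index.gx = gen J4.Gen.x := rfl
theorem gy_eq : Index.gy = gen J4.Gen.y := rfl
theorem gt_eq : Index.gt = gen J4.Gen.t := rfl

theorem prod_trW (w : List ℕ) (hw : ∀ l ∈ w, l = 0 ∨ l = 2 ∨ l = 3) :
    ((trW w).map fun i => vals.getD i 1).prod = Index.wJ w := by
  rw [trW, List.map_map, Index.wJ]
  refine congrArg List.prod (List.map_congr_left fun l hl => ?_)
  rcases hw l hl with rfl | rfl | rfl <;> rfl

theorem El_tU (u : List ℕ) (hu : ∀ l ∈ u, l = 0 ∨ l = 2 ∨ l = 3) :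
    El (trW (Index.winv u) ++ [2] ++ trW u) = Index.tU u := by
  have hw : ∀ l ∈ Index.winv u, l = 0 ∨ l = 2 ∨ l = 3 := by
    intro l hl
    simp only [Index.winv, List.mem_reverse, List.mem_map] at hl
    obtain ⟨x, -, rfl⟩ := hl
    split_ifs <;> simp
  rw [El, List.map_append, List.map_append, List.prod_append, List.prod_append, prod_trW u hu,
    prod_trW _ hw, Index.wJ_winv hu]
  show ((Index.wJ u)⁻¹ * (Index.gt * 1) * Index.wJ u)⁻¹ = (Index.wJ u)⁻¹ * Index.gt * Index.wJ u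
  rw [mul_one, mul_inv_rev, mul_inv_rev, inv_inv, Index.gt_inv, mul_assoc]

variable [Faith]

/-- the seven relations hold in the group presented by them -/
theorem m24Rels_M : M24Rels (PresentedGroup.of (rels := rels7) false) (PresentedGroup.of true) := by
  have h : ∀ r ∈ r7, PresentedGroup.mk rels7 r = 1 := fun r hr => PresentedGroup.one_of_mem hr
  simp only [r7, List.forall_mem_cons, map_mul, map_pow, map_inv] at h
  obtain ⟨h1, h2, h3, h4, h5, h6, h7, -⟩ := h
  exact ⟨h1, h2, h3, h4, h5, h6, h7⟩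

theorem toM_surjective : Function.Surjective (M24Iso.toHom m24Rels_M) := by
  rw [← MonoidHom.range_eq_top, M24Iso.range_toHom, eq_top_iff, ← PresentedGroup.closure_range_of rels7,
    Subgroup.closure_le]
  rintro _ ⟨b, rfl⟩
  cases b
  · exact Subgroup.subset_closure (Or.inl rfl)
  · exact Subgroup.subset_closure (Or.inr rfl)

theorem psi_mem_range (g : Cfsg.M24) : ∃ m : M, Index.psi g = ψ m := by
  refine ⟨M24Iso.toHom m24Rels_M g, ?_⟩
  have h : (ψ.comp (M24Iso.toHom m24Rels_M)) = Index.psi := by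
    refine MonoidHom.eq_of_eqOn_dense M24Iso.gen_top ?_
    rintro _ (rfl | rfl)
    · rw [MonoidHom.comp_apply, M24Iso.toHom_ga, Index.psi, M24Iso.toHom_ga]
      exact PresentedGroup.toGroup.of mGen_rels
    · rw [MonoidHom.comp_apply, M24Iso.toHom_gb, Index.psi, M24Iso.toHom_gb]
      exact PresentedGroup.toGroup.of mGen_rels
  exact (DFunLike.congr_fun h g).symm

theorem subH_le : Index.subH ≤ Pst := by
  rw [Index.subH, Subgroup.closure_le]
  rintro _ (rfl | rfl | rfl)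
  · exact ⟨PresentedGroup.of false, 0, by norm_num, by
      rw [e_zero, mul_one]; exact (PresentedGroup.toGroup.of mGen_rels (x := false)).symm⟩
  · exact ⟨PresentedGroup.of true, 0, by norm_num, by
      rw [e_zero, mul_one]; exact (PresentedGroup.toGroup.of mGen_rels (x := true)).symm⟩
  · have hg : (gsW.map fun i => vals.getD i 1).prod = Index.gs := by
      have hw : ∀ l ∈ Index.wH, l = 0 ∨ l = 2 ∨ l = 3 := by decide
      have hw' : ∀ l ∈ Index.winv Index.wH, l = 0 ∨ l = 2 ∨ l = 3 := by decide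
      simp only [gsW, List.map_append, List.prod_append, prod_trW _ hw, prod_trW _ hw',
        Index.wJ_winv hw]
      show _ = (Index.gy * ((Index.wJ Index.wH)⁻¹ * Index.gt * Index.wJ Index.wH)) ^ 3
      simp only [List.map_cons, List.map_nil, List.prod_cons, List.prod_nil, mul_one, pow_succ,
        pow_zero, one_mul, mul_assoc, vals_small (show (1 : ℕ) < 4 by norm_num),
        vals_small (show (2 : ℕ) < 4 by norm_num), lets, gy_eq, gt_eq]
    have h1 : El gsW * e 1 = 1 := by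
      rw [e, ← El_append, ← El_nil]
      refine El_eq_of_sameM ?_
      simp only [Bool.and_eq_true, lt36_append]
      exact ⟨⟨⟨lt36_eW 1, gsW_lt⟩, rfl⟩, gs_ok⟩
    refine ⟨1, 1, by norm_num, ?_⟩
    rw [map_one, one_mul]
    have h2 := eq_inv_of_mul_eq_one_left h1
    rw [El, hg, inv_inj] at h2
    exact h2

theorem node_eq : ∀ j, j < 20 → Index.node j = ((El (reps.getD j []) : Cfsg.Spor.J4) : Index.Pts) := by
  intro j
  induction j using Nat.strong_induction_on with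
  | _ j ih =>
    intro hj
    rcases j with _ | k
    · rw [Index.node_zero, show reps.getD 0 [] = [] from rfl, El_nil]; rfl
    · have h := List.all_eq_true.1 nodes_ok k (List.mem_range.2 (by omega))
      simp only [Bool.and_eq_true, List.all_eq_true, Bool.or_eq_true, Nat.beq_eq, beq_iff_eq,
        Nat.blt_eq] at h
      obtain ⟨⟨⟨hlet, hmove⟩, hrep⟩, hlt⟩ := h
      have hl : ∀ l ∈ nodeU.getD k [], l = 0 ∨ l = 2 ∨ l = 3 := fun l hl => or_assoc.1 (hlet l hl)
      have ht := Index.okWords_spec (us := [nodeU.getD k []]) (ws := [Index.defC (k + 1)])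
        (by simpa using hl) (by rw [Index.okWords, hmove]; rfl)
      simp only [List.map_cons, List.map_nil, List.cons.injEq, and_true] at ht
      rw [Index.node_def (by omega) hj, ih _ hlt (by omega), ht, ← El_tU _ hl, hrep,
        El_append (reps.getD (Index.defI (k + 1)) [])]
      rfl

/-- the facts hold -/
theorem facts : Facts := by
  have hfin : Finite M := Finite.of_surjective _ toM_surjective
  refine ⟨hfin, ?_, fun g => ?_⟩
  · exact (Nat.card_le_card_of_surjective _ toM_surjective).trans_eq CfsgLib.Spor.natCard_M24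
  · obtain ⟨⟨⟨i, hi⟩, q⟩, hq⟩ := Index.allMap_surjective (g : Index.Pts)
    induction q using QuotientGroup.induction_on with
    | H k =>
      obtain ⟨m, hm⟩ := psi_mem_range k
      have hq' : Index.psi k • Index.node i = (g : Index.Pts) := hq
      rw [node_eq i hi, hm] at hq'
      have hmem : (ψ m * El (reps.getD i []))⁻¹ * g ∈ Index.subH :=
        (QuotientGroup.eq (a := ψ m * El (reps.getD i [])) (b := g)).1 hq'
      exact ⟨i, hi, m, _, subH_le hmem, (mul_inv_cancel_left _ _).symm⟩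

end CfsgLib.Spor.J4Cent
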