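import Cfsg.Agent.Lib.Spor.J4Cent.Upper
import Cfsg.Agent.Lib.KnownA.MathieuOut.M22
import Cfsg.Agent.Lib.Spor.MathieuSimple

/-!
The image of the centraliser on the 77 vectors contains the automorphism group of the Steiner
system on 22 points.
-/

set_option autoImplicit false
set_option maxRecDepth 100000
set_option maxHeartbeats 1000000

namespace CfsgLib.Spor.J4Cent

open CfsgLib.PresCert Cfsg Cfsg.Spor CfsgLib.Spor CfsgLib.MathieuOut
open scoped Pointwise

/-- the two special points -/
def pairM : ℕ := 8388609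

/-- the vectors and the octads are moved alike -/
noncomputable def witOK (a x : Nat) : Bool :=
  isM24P a && Nat.beq (actP a pairM) pairM &&
    (List.range 77).all fun i => forceN (app [x] (pts.getD i (nat_lit 0))) fun v =>
      forceN (actP a (hexM.getD i (nat_lit 0))) fun m =>
        (List.range 77).any fun j => Nat.beq (hexM.getD j (nat_lit 0)) m && Nat.beq (pts.getD j (nat_lit 0)) v

theorem witA : witOK M22Cert.genA 20 = true := by decide +kernel
theorem witB : witOK M22Cert.genB 21 = true := by decide +kernel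
theorem witC : witOK M22Cert.genC 22 = true := by decide +kernel
theorem witT : witOK pTau 17 = true := by decide +kernel

theorem hex_lt : ∀ m ∈ hexM, m < 2 ^ 24 := by decide +kernel

theorem hex_nodup : hexM.Nodup := by decide +kernel

theorem hex_cut : ((List.range 24).all fun t => Nat.beq t 0 || Nat.beq t 23 || (List.range 24).all fun s =>
    Nat.beq s t || pairM.testBit s || hexM.any fun m => m.testBit t && !m.testBit s) = true := by
  decide +kernel

theorem getD_mem_pts {i : ℕ} (hi : i < 77) : pts.getD i 0 ∈ pts := by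
  rw [List.getD_eq_getElem _ _ (show i < pts.length from hi)]; exact List.getElem_mem _

/-- the point with a number -/
def ptV (i : Fin 77) : {v : V // v.1 ∈ pts} :=
  ⟨⟨pts.getD i 0, pts_lt _ (getD_mem_pts i.2)⟩, getD_mem_pts i.2⟩

/-- the 77 vectors numbered -/
noncomputable def e77 : Fin 77 ≃ {v : V // v.1 ∈ pts} :=
  Equiv.ofBijective ptV ⟨fun i j h => by
    have e : pts.getD i 0 = pts.getD j 0 := congrArg (fun x => x.1.1) h
    rw [List.getD_eq_getElem _ _ (show (i : ℕ) < pts.length from i.2), List.getD_eq_getElem _ _ (show (j : ℕ) < pts.length from j.2)] at e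
    exact Fin.ext ((pts_nodup.getElem_inj_iff).1 e), fun v => by
    obtain ⟨i, hi, e⟩ := List.getElem_of_mem v.2
    exact ⟨⟨i, hi⟩, Subtype.ext (Subtype.ext ((List.getD_eq_getElem _ _ hi).trans e))⟩⟩

variable [Faith]

/-- the centraliser of the involution -/
abbrev Cz : Subgroup Cfsg.Spor.J4 := Subgroup.centralizer ({z} : Set Cfsg.Spor.J4)

omit [Faith] in
theorem mem_Cz {g : Cfsg.Spor.J4} : g ∈ Cz ↔ g * z * g⁻¹ = z := by
  rw [Subgroup.mem_centralizer_singleton_iff, mul_inv_eq_iff_eq_mul]

theorem El_mem_Cz {x : Nat} (hx : x ∈ cenIds) : El [x] ∈ Cz :=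
  Subgroup.mem_centralizer_singleton_iff.2 (El_comm_z hx)

variable (F : Facts)

include F

/-- the permutations of the 77 vectors -/
noncomputable def φ : Cz →* Equiv.Perm (Fin 77) where
  toFun g := e77.symm.permCongr ((π g.1).subtypePerm fun v => (cent_mem_Pts F (mem_Cz.1 g.2) v))
  map_one' := by ext i; simp
  map_mul' g h := by ext i; simp

theorem φ_spec (g : Cz) (i : Fin 77) : (e77 (φ F g i)).1 = π g.1 (e77 i).1 := by
  simp [φ]

/-- pairs of permutations of points and of vectors moving octads and vectors alike -/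
noncomputable def Γ : Subgroup (Equiv.Perm GolayPt × Equiv.Perm (Fin 77)) where
  carrier := {x | x.1 ∈ M24 ∧ x.1 • toSet pairM = toSet pairM ∧ x.2 ∈ (φ F).range ∧
    ∀ i : Fin 77, x.1 • toSet (hexM.getD i 0) = toSet (hexM.getD (x.2 i) 0)}
  one_mem' := ⟨one_mem _, one_smul _ _, one_mem _, fun i => one_smul _ _⟩
  mul_mem' := by
    rintro ⟨a, p⟩ ⟨b, q⟩ ⟨a1, a2, a3, a4⟩ ⟨b1, b2, b3, b4⟩
    refine ⟨mul_mem a1 b1, ?_, mul_mem a3 b3, fun i => ?_⟩
    · show (a * b) • toSet pairM = _
      rw [mul_smul, b2, a2]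
    · show (a * b) • toSet (hexM.getD i 0) = _
      rw [mul_smul, b4 i, a4 (q i)]
      rfl
  inv_mem' := by
    rintro ⟨a, p⟩ ⟨a1, a2, a3, a4⟩
    refine ⟨inv_mem a1, ?_, inv_mem a3, fun i => ?_⟩
    · exact inv_smul_eq_iff.2 a2.symm
    · show a⁻¹ • toSet (hexM.getD i 0) = _
      rw [inv_smul_eq_iff, a4]
      simp

theorem wit_mem {a x : Nat} (h : witOK a x = true) (hx : x ∈ cenIds) :
    ∃ σ p, (σ, p) ∈ Γ F ∧ CfsgLib.Spor.Rep σ a ∧ p = φ F ⟨El [x], El_mem_Cz hx⟩ := by
  simp only [witOK, Bool.and_eq_true, List.all_eq_true, List.mem_range, forceN_eq, List.any_eq_true,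
    Nat.beq_eq] at h
  obtain ⟨σ, hσ, hr⟩ := exists_rep_M24 h.1.1
  refine ⟨σ, _, ⟨hσ, hr.smul_toSet_eq h.1.2, ⟨_, rfl⟩, fun i => ?_⟩, hr, rfl⟩
  obtain ⟨j, hj, e1, e2⟩ := h.2 i i.2
  have he : φ F ⟨El [x], El_mem_Cz hx⟩ i = ⟨j, hj⟩ := by
    refine e77.injective (Subtype.ext (Subtype.ext ?_))
    rw [φ_spec, π_El (lt36_iff.2 (by simpa using cenIds_lt x hx))]
    exact e2.symm
  show σ • toSet (hexM.getD i 0) = toSet (hexM.getD _ 0)
  rw [he, hr.smul_toSet_eq e1.symm]

omit [Faith] F in
theorem pt_mem_toSet {t m : ℕ} (ht : t < 24) : pt t ∈ toSet m ↔ m.testBit t = true := by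
  rw [mem_toSet, idx_pt ht]

theorem snd_injective {x : Equiv.Perm GolayPt × Equiv.Perm (Fin 77)} (hx : x ∈ Γ F) (h2 : x.2 = 1) :
    x = 1 := by
  obtain ⟨a, p⟩ := x
  obtain ⟨a1, a2, -, a4⟩ := hx
  simp only at h2
  subst h2
  refine Prod.ext ?_ rfl
  show a = 1
  refine eq_one_of_nine_fixed a1 ((Finset.range 22).image fun t => pt (t + 1)) ?_ ?_
  · rw [Finset.card_image_of_injOn, Finset.card_range]
    · norm_num
    · intro s hs t ht e
      simp only [Finset.coe_range, Set.mem_Iio] at hs ht
      have := congrArg idx e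
      rw [idx_pt (by omega), idx_pt (by omega)] at this
      omega
  · intro q hq
    simp only [Finset.mem_image, Finset.mem_range] at hq
    obtain ⟨t, ht, rfl⟩ := hq
    have ht24 : t + 1 < 24 := by omega
    have hp : ∀ u, u = 0 ∨ u = 23 ↔ pairM.testBit u = true := by
      intro u
      rcases lt_or_ge u 24 with h | h
      · revert u; decide
      · rw [Nat.testBit_lt_two_pow (lt_of_lt_of_le (show pairM < 2 ^ 24 by decide)
          (Nat.pow_le_pow_right (by norm_num) h))]
        simp; omega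
    by_contra hne
    have hs : idx (a (pt (t + 1))) ≠ t + 1 := fun e => hne (idx_injective (by rw [e, idx_pt ht24]))
    have hnp : pairM.testBit (idx (a (pt (t + 1)))) = false := by
      by_contra hc
      rw [Bool.not_eq_false] at hc
      have hmem : a (pt (t + 1)) ∈ a • toSet pairM := by rw [a2, mem_toSet]; exact hc
      rw [show a (pt (t + 1)) = a • pt (t + 1) from rfl, Finset.smul_mem_smul_finset_iff,
        pt_mem_toSet ht24, ← hp] at hmem
      omega
    have hc := List.all_eq_true.1 (List.all_eq_true.1 hex_cut (t + 1) (List.mem_range.2 ht24) |> fun h => by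
      simpa [Bool.or_eq_true, show t + 1 ≠ 23 by omega] using h : ((List.range 24).all fun s =>
        Nat.beq s (t + 1) || pairM.testBit s || hexM.any fun m => m.testBit (t + 1) && !m.testBit s) = true)
      _ (List.mem_range.2 (idx_lt (a (pt (t + 1)))))
    simp only [hnp, Bool.or_false, Bool.or_eq_true, Nat.beq_eq, List.any_eq_true, Bool.and_eq_true,
      Bool.not_eq_true'] at hc
    obtain ⟨m, hm, h1, h3⟩ := hc.resolve_left hs
    obtain ⟨i, hi, rfl⟩ := List.getElem_of_mem hm
    have := a4 ⟨i, hi⟩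
    simp only [Equiv.Perm.one_apply] at this
    rw [List.getD_eq_getElem _ _ hi] at this
    have hmem : a (pt (t + 1)) ∈ toSet hexM[i] := by
      rw [← this]
      exact Finset.smul_mem_smul_finset ((pt_mem_toSet ht24).2 h1)
    rw [mem_toSet, h3] at hmem
    exact absurd hmem (by decide)

/-- the permutations of the points coming from the centraliser -/
noncomputable def G2 : Subgroup (Equiv.Perm GolayPt) := (Γ F).map (MonoidHom.fst _ _)

theorem M22_le : stabG [] [23, 0] ≤ G2 F := by
  have hgen : ∀ a ∈ [M22Cert.genA, M22Cert.genB, M22Cert.genC],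
      RepIn (stabG [] [23, 0] ⊓ G2 F) a := by
    have key : ∀ a x, witOK a x = true → x ∈ cenIds → inStabP [] [23, 0] a = true →
        RepIn (stabG [] [23, 0] ⊓ G2 F) a := by
      intro a x h hx hs
      obtain ⟨σ, p, hmem, hr, -⟩ := wit_mem F h hx
      obtain ⟨σ', hσ', hr'⟩ := repIn_of_inStabP (by simp) hs
      refine ⟨σ, Subgroup.mem_inf.2 ⟨?_, ⟨(σ, p), hmem, rfl⟩⟩, hr⟩
      rwa [hr.inj hr']
    simp only [List.forall_mem_cons, List.not_mem_nil, false_imp_iff, forall_const, and_true]
    exact ⟨key _ _ witA (by decide) (by decide +kernel), key _ _ witB (by decide) (by decide +kernel),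
      key _ _ witC (by decide) (by decide +kernel)⟩
  have := eq_of_levels (G := stabG [] [23, 0]) inf_le_left hgen M22Cert.rows (by decide +kernel)
    M22Cert.lev (by decide +kernel) (by decide +kernel) (by
      rw [stabG_M22, natCard_M22]; decide +kernel)
  exact this ▸ inf_le_right

theorem card_G2 : 887040 ≤ Nat.card (G2 F) := by
  obtain ⟨σ, p, hmem, hr, -⟩ := wit_mem F witT (x := 17) (by decide)
  have hne : ¬ G2 F ≤ stabG [] [23, 0] := fun h => by
    have : σ (pt 23) = pt 23 := (h ⟨(σ, p), hmem, rfl⟩).2.2 23 (by simp)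
    rw [hr.fix_iff (by norm_num)] at this
    exact absurd this (by decide +kernel)
  have h1 := Subgroup.card_mul_index ((stabG [] [23, 0]).subgroupOf (G2 F))
  rw [Nat.card_congr (Subgroup.subgroupOfEquivOfLe (M22_le F)).toEquiv, stabG_M22, natCard_M22] at h1
  have h2 : ((stabG [] [23, 0]).subgroupOf (G2 F)).index ≠ 1 := fun h => by
    rw [Subgroup.index_eq_one, Subgroup.subgroupOf_eq_top] at h
    exact hne h
  have h3 : ((stabG [] [23, 0]).subgroupOf (G2 F)).index ≠ 0 := Subgroup.FiniteIndex.index_ne_zero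
  rw [stabG_M22] at h2 h3
  omega

theorem card_Γ : Nat.card (G2 F) ≤ Nat.card (φ F).range := by
  let f : Γ F → (φ F).range := fun x => ⟨x.1.2, x.2.2.2.1⟩
  have hf : Function.Injective f := fun x y e => by
    have e' : x.1.2 = y.1.2 := congrArg Subtype.val e
    have := snd_injective F (Γ F |>.mul_mem ((Γ F).inv_mem x.2) y.2) (by simp [e'])
    exact Subtype.ext (inv_mul_eq_one.1 this)
  refine le_trans ?_ (Nat.card_le_card_of_injective f hf)
  exact Nat.card_le_card_of_surjective ((MonoidHom.fst _ _).subgroupMap (Γ F))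
    ((MonoidHom.fst _ _).subgroupMap_surjective (Γ F))

end CfsgLib.Spor.J4Cent
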