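import Cfsg.Agent.Lib.Spor.J4Cent.Image
import Cfsg.Agent.Lib.Spor.J4Cent.Extra

/-!
The centraliser of an involution in the presented fourth Janko group.
-/

set_option autoImplicit false
set_option maxRecDepth 100000
set_option maxHeartbeats 1000000

namespace CfsgLib.Spor.J4Cent

open CfsgLib.PresCert Cfsg Cfsg.Spor CfsgLib.Spor CfsgLib.MathieuOut
open scoped Pointwise

/-- a named element fixes all 77 vectors -/
noncomputable def fixPts (x : Nat) : Bool := pts.all fun p => forceN p fun p => Nat.beq (app [x] p) p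

theorem fix4 : fixPts 4 = true := by decide +kernel
theorem fix23 : fixPts 23 = true := by decide +kernel
theorem fix24 : fixPts 24 = true := by decide +kernel
theorem fix25 : fixPts 25 = true := by decide +kernel
theorem fix26 : fixPts 26 = true := by decide +kernel
theorem fix27 : fixPts 27 = true := by decide +kernel
theorem fix28 : fixPts 28 = true := by decide +kernel
theorem fix29 : fixPts 29 = true := by decide +kernel
theorem fix30 : fixPts 30 = true := by decide +kernel
theorem fix31 : fixPts 31 = true := by decide +kernel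
theorem fix32 : fixPts 32 = true := by decide +kernel
theorem fix33 : fixPts 33 = true := by decide +kernel
theorem fix34 : fixPts 34 = true := by decide +kernel
theorem fix35 : fixPts 35 = true := by decide +kernel

theorem fixPts_all : ∀ x ∈ [4, 23] ++ qIds, fixPts x = true := by
  simp only [qIds, List.cons_append, List.nil_append, List.forall_mem_cons, List.not_mem_nil,
    false_imp_iff, forall_const, and_true]
  exact ⟨fix4, fix23, fix24, fix25, fix26, fix27, fix28, fix29, fix30, fix31, fix32, fix33, fix34, fix35⟩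

/-- `M22` is simple -/
theorem isM22_stab : Cfsg.IsM22 (stabG [] [23, 0] : Subgroup (Equiv.Perm GolayPt)) := by
  rw [stabG_M22]
  refine ⟨?_, natCard_M22⟩
  have := isSimpleGroup_stab_two (a := (none : GolayPt)) (c := some 0) (by simp)
  let e : Spor.M22 ≃* ↥(MulAction.stabilizer M24 (none : GolayPt) ⊓
      MulAction.stabilizer M24 (some 0 : GolayPt)) :=
    { toFun := fun g => ⟨⟨g.1, g.2.1.1⟩, g.2.1.2, g.2.2⟩
      invFun := fun g => ⟨g.1.1, ⟨g.1.2, g.2.1⟩, g.2.2⟩
      left_inv := fun _ => rfl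
      right_inv := fun _ => rfl
      map_mul' := fun _ _ => rfl }
  exact e.isSimpleGroup

variable [Faith]

theorem Ns_le_fix {g : Cfsg.Spor.J4} (hg : g ∈ Ns) :
    g ∈ Cz ∧ ∀ v : V, v.1 ∈ pts → π g v = v := by
  have key : ∀ x ∈ [4, 23] ++ qIds, El [x] ∈ Cz ∧ ∀ v : V, v.1 ∈ pts → π (El [x]) v = v := by
    intro x hx
    have hc : x ∈ cenIds := by
      rcases List.mem_append.1 hx with h | h
      · fin_cases h <;> decide
      · exact qIds_cen x h
    refine ⟨El_mem_Cz hc, fun v hv => Subtype.ext ?_⟩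
    rw [π_El (lt36_iff.2 (by simpa using cenIds_lt x hc))]
    have := List.all_eq_true.1 (fixPts_all x hx) _ hv
    rw [forceN_eq] at this
    exact Nat.eq_of_beq_eq_true this
  let S : Subgroup Cfsg.Spor.J4 :=
    { carrier := {g | g ∈ Cz ∧ ∀ v : V, v.1 ∈ pts → π g v = v}
      one_mem' := ⟨one_mem _, fun v _ => by simp⟩
      mul_mem' := fun {a b} ha hb => ⟨mul_mem ha.1 hb.1, fun v hv => by
        rw [map_mul, Equiv.Perm.mul_apply, hb.2 v hv, ha.2 v hv]⟩
      inv_mem' := fun {a} ha => ⟨inv_mem ha.1, fun v hv => by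
        rw [map_inv, Equiv.Perm.inv_eq_iff_eq, ha.2 v hv]⟩ }
  suffices Ns ≤ S from this hg
  refine sup_le ((Subgroup.closure_le _).2 ?_) (Subgroup.zpowers_le.2 (key 23 (by simp)))
  rintro g (rfl | ⟨i, hi, rfl⟩)
  · rw [← El_four]; exact key 4 (by simp)
  · refine key _ (List.mem_append_right _ ?_)
    interval_cases i <;> decide

variable (F : Facts)

include F

/-- pairs whose permutation of points fixes the two special points -/
noncomputable def Γ22 : Subgroup (Equiv.Perm GolayPt × Equiv.Perm (Fin 77)) :=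
  Γ F ⊓ (stabG [] [23, 0]).comap (MonoidHom.fst _ _)

/-- the image corresponding to the simple Mathieu group -/
noncomputable def H77 : Subgroup (Equiv.Perm (Fin 77)) := (Γ22 F).map (MonoidHom.snd _ _)

theorem H77_le : H77 F ≤ (φ F).range := by
  rintro _ ⟨x, hx, rfl⟩
  exact hx.1.2.2.1

theorem fst_injective {x : Equiv.Perm GolayPt × Equiv.Perm (Fin 77)} (hx : x ∈ Γ F) (h1 : x.1 = 1) :
    x = 1 := by
  refine Prod.ext h1 (Equiv.ext fun i => ?_)
  have h := hx.2.2.2 i
  rw [h1, one_smul] at h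
  have hlt : ∀ j : Fin 77, hexM.getD j 0 < 2 ^ 24 := fun j => by
    rw [List.getD_eq_getElem _ _ (show (j : ℕ) < hexM.length from j.2)]
    exact hex_lt _ (List.getElem_mem _)
  have e := toSet_injOn (hlt i) (hlt _) h
  rw [List.getD_eq_getElem _ _ (show (i : ℕ) < hexM.length from i.2),
    List.getD_eq_getElem _ _ (show (x.2 i : ℕ) < hexM.length from (x.2 i).2)] at e
  exact (Fin.ext (hex_nodup.getElem_inj_iff.1 e)).symm

/-- the identification with the Mathieu group -/
theorem H77_equiv : Nonempty (H77 F ≃* (stabG [] [23, 0] : Subgroup (Equiv.Perm GolayPt))) := by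
  let f : Γ22 F →* (stabG [] [23, 0] : Subgroup (Equiv.Perm GolayPt)) :=
    ((MonoidHom.fst _ _).comp (Γ22 F).subtype).codRestrict _ fun x => x.2.2
  have hf : Function.Bijective f := by
    refine ⟨(injective_iff_map_eq_one f).2 fun x hx => ?_, fun g => ?_⟩
    · exact Subtype.ext (fst_injective F x.2.1 (congrArg Subtype.val hx))
    · obtain ⟨x, hx, e⟩ := M22_le F g.2
      have hx1 : x.1 ∈ stabG [] [23, 0] := by
        rw [show x.1 = g.1 from e]; exact g.2
      have hx2 : x ∈ Γ22 F := ⟨hx, hx1⟩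
      exact ⟨⟨x, hx2⟩, Subtype.ext e⟩
  have hsnd : Function.Injective ((MonoidHom.snd _ _).subgroupMap (Γ22 F)) :=
    (injective_iff_map_eq_one _).2 fun x hx =>
      Subtype.ext (snd_injective F x.2.1 (congrArg Subtype.val hx))
  let f2 := (MonoidHom.snd (Equiv.Perm GolayPt) (Equiv.Perm (Fin 77))).subgroupMap (Γ22 F)
  have hf2 : Function.Bijective f2 := ⟨hsnd, MonoidHom.subgroupMap_surjective _ _⟩
  exact ⟨(MulEquiv.ofBijective f2 hf2).symm.trans (MulEquiv.ofBijective f hf)⟩

theorem z_mem_Cz : z ∈ Cz := Subgroup.mem_centralizer_singleton_iff.2 rfl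

/-- the normal subgroups in the centraliser -/
theorem structure_z [Finite Cfsg.Spor.J4] :
    ∃ (Q N M' : Subgroup Cz), Q.Normal ∧ N.Normal ∧ Q ≤ N ∧ N ≤ M' ∧ Nat.card Q = 2 ^ 13 ∧
      Cfsg.IsExtraspecial 2 Q ∧ Nat.card N = 3 * 2 ^ 13 ∧ M'.index = 2 ∧
      ∃ (_ : (N.subgroupOf M').Normal), Cfsg.IsM22 (M' ⧸ N.subgroupOf M') := by
  have hNC : Ns ≤ Cz := fun g hg => (Ns_le_fix hg).1
  set N := Ns.subgroupOf Cz with hNdef
  have hcN : Nat.card N = 24576 := by
    rw [hNdef, Nat.card_congr (Subgroup.subgroupOfEquivOfLe hNC).toEquiv, (Ns_spec).1]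
  have hker : N ≤ (φ F).ker := fun g hg => by
    rw [MonoidHom.mem_ker]
    refine Equiv.ext fun i => e77.injective (Subtype.ext ?_)
    rw [φ_spec, (Ns_le_fix (Subgroup.mem_subgroupOf.1 hg)).2 _ (e77 i).2]
    rfl
  have hk1 : 24576 ≤ Nat.card (φ F).ker := hcN ▸ Subgroup.card_le_of_le hker
  have hr1 : 887040 ≤ Nat.card (φ F).range := (card_G2 F).trans (card_Γ F)
  have hmul := (φ F).ker.card_mul_index
  rw [Subgroup.index_ker] at hmul
  have hC : Nat.card Cz ≤ 21799895040 := card_cent_le F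
  have hk : Nat.card (φ F).ker = 24576 := by
    have h2 := Nat.mul_le_mul_left (Nat.card (φ F).ker) hr1
    omega
  have hr : Nat.card (φ F).range = 887040 := by
    rw [hk] at hmul
    omega
  have hN : N = (φ F).ker := Subgroup.eq_of_le_of_card_ge hker (by omega)
  have hNn : N.Normal := hN ▸ inferInstance
  set Q := Qs.subgroupOf Cz with hQdef
  have hQC : Qs ≤ Cz := le_sup_left.trans hNC
  have hQN : Q ≤ N := fun g hg => le_sup_left (a := Qs) hg
  have hcQ : Nat.card Q = 8192 := by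
    rw [hQdef, Nat.card_congr (Subgroup.subgroupOfEquivOfLe hQC).toEquiv, (Qs_spec).1]
  have hQn : Q.Normal := by
    refine ⟨fun q hq g => ?_⟩
    have hn := hNn.conj_mem q (hQN hq) g
    rw [Subgroup.mem_subgroupOf]
    refine ((Ns_spec).2 _ (Subgroup.mem_subgroupOf.1 hn)).2 ?_
    have h4 := ((Ns_spec).2 _ (Subgroup.mem_subgroupOf.1 (hQN hq))).1 hq
    simp [Subgroup.coe_mul, Subgroup.coe_inv, conj_pow, h4]
  have hzQ : (⟨z, z_mem_Cz F⟩ : Cz) ∈ Q := z_mem_Qs
  have hext : Cfsg.IsExtraspecial 2 Q := by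
    refine (CfsgLib.ThreeTransp.isExtraspecial_of Q (z := (⟨z, z_mem_Cz F⟩ : Cz))
      (IsPGroup.of_card (n := 13) (by rw [hcQ]; norm_num)) hzQ
      (fun h => z_ne (congrArg Subtype.val h)) (Subtype.ext zz)
      (fun a ha => Subtype.ext (z_central ha)) ?_ ?_ ?_ ?_).1
    · intro a ha b hb
      have hab : (a : Cfsg.Spor.J4) * b = b * a ∨ (a : Cfsg.Spor.J4) * b = z * (b * a) := comm_all ha hb
      rcases hab with e' | e'
      · left; refine Subtype.ext ?_
        show (a : Cfsg.Spor.J4) * b * (a : Cfsg.Spor.J4)⁻¹ * (b : Cfsg.Spor.J4)⁻¹ = 1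
        rw [e']; group
      · right; refine Subtype.ext ?_
        show (a : Cfsg.Spor.J4) * b * (a : Cfsg.Spor.J4)⁻¹ * (b : Cfsg.Spor.J4)⁻¹ = z
        rw [e']; group
    · intro a ha
      exact (sq_all ha).imp (fun h => Subtype.ext h) fun h => Subtype.ext h
    · intro d hd hcd
      have := (Qs_spec).2 _ hd fun g hg => congrArg Subtype.val (hcd ⟨g, hQC hg⟩ hg)
      exact this.imp (fun h => Subtype.ext h) fun h => Subtype.ext h
    · refine ⟨⟨q 0, hQC (q_mem (by norm_num))⟩, q_mem (show 0 < 12 by norm_num),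
        ⟨q 6, hQC (q_mem (by norm_num))⟩, q_mem (show 6 < 12 by norm_num), fun h => ?_⟩
      have h1 := q_swap 0 6 (by norm_num) (by norm_num)
      rw [if_pos (by decide), ← show q 0 * q 6 = q 6 * q 0 from congrArg Subtype.val h] at h1
      exact z_ne (mul_eq_right.1 h1.symm)
  obtain ⟨eH⟩ := H77_equiv F
  have hM22 := isM22_stab
  have hcH : Nat.card (H77 F) = 443520 := (Nat.card_congr eH.toEquiv).trans hM22.2
  set M' := (H77 F).comap (φ F) with hMdef
  have hNM : N ≤ M' := fun g hg => by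
    show φ F g ∈ H77 F
    rw [MonoidHom.mem_ker.1 (hker hg)]
    exact one_mem _
  have hidx : M'.index = 2 := by
    rw [hMdef, Subgroup.index_comap]
    have h := ((H77 F).subgroupOf (φ F).range).card_mul_index
    rw [Nat.card_congr (Subgroup.subgroupOfEquivOfLe (H77_le F)).toEquiv, hcH, hr] at h
    show ((H77 F).subgroupOf (φ F).range).index = 2
    omega
  refine ⟨Q, N, M', hQn, hNn, hQN, hNM, by rw [hcQ]; norm_num, hext, by rw [hcN]; norm_num, hidx,
    ⟨inferInstance, ?_⟩⟩
  let ρ : M' →* H77 F := (φ F).subgroupComap (H77 F)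
  have hρ : Function.Surjective ρ := fun h => by
    obtain ⟨g, hg⟩ := H77_le F h.2
    exact ⟨⟨g, show φ F g ∈ H77 F by rw [hg]; exact h.2⟩, Subtype.ext hg⟩
  have hρk : N.subgroupOf M' = ρ.ker := by
    ext g
    rw [Subgroup.mem_subgroupOf, hN, MonoidHom.mem_ker, MonoidHom.mem_ker]
    exact ⟨fun h => Subtype.ext h, fun h => congrArg Subtype.val h⟩
  let eQ : M' ⧸ N.subgroupOf M' ≃* (stabG [] [23, 0] : Subgroup (Equiv.Perm GolayPt)) :=
    (QuotientGroup.quotientMulEquivOfEq hρk).trans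
      ((QuotientGroup.quotientKerEquivOfSurjective ρ hρ).trans eH)
  have := hM22.1
  exact ⟨eQ.isSimpleGroup, (Nat.card_congr eQ.toEquiv).trans hM22.2⟩

/-- S0476 from the facts on the presented group -/
theorem main (hJ : Cfsg.IsJ4 Cfsg.Spor.J4) :
    ∃ (G : Type) (_ : Group G) (_ : Finite G), Cfsg.IsJ4 G ∧ ∃ z : G, orderOf z = 2 ∧
      ∃ (Q N M : Subgroup (Subgroup.centralizer ({z} : Set G))), Q.Normal ∧ N.Normal ∧ Q ≤ N ∧ N ≤ M ∧
        Nat.card Q = 2 ^ 13 ∧ Cfsg.IsExtraspecial 2 Q ∧ Nat.card N = 3 * 2 ^ 13 ∧ M.index = 2 ∧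
        ∃ (_ : (N.subgroupOf M).Normal), Cfsg.IsM22 (M ⧸ N.subgroupOf M) := by
  have : Finite Cfsg.Spor.J4 := Nat.finite_of_card_ne_zero (by rw [hJ.2]; norm_num)
  refine ⟨Cfsg.Spor.J4, inferInstance, this, hJ, z, ?_, structure_z F⟩
  exact orderOf_eq_prime (by rw [pow_two]; exact zz) z_ne

end CfsgLib.Spor.J4Cent
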