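import Cfsg.Agent.Lib.Spor.J4Cent.Code

/-!
The subgroup on the first two generators and the orbit of the involution under it.
-/

set_option autoImplicit false
set_option maxRecDepth 100000
set_option maxHeartbeats 1000000

namespace CfsgLib.Spor.J4Cent

open CfsgLib.PresCert Cfsg.Spor Equiv

/-- the seven relators on two letters -/
def r7 : List (FreeGroup Bool) :=
  let x := FreeGroup.of false
  let y := FreeGroup.of true
  [x ^ 2, y ^ 3, (x * y) ^ 23, (x⁻¹ * y⁻¹ * x * y) ^ 12,
    (x⁻¹ * (y * x * y)⁻¹ * x * (y * x * y)) ^ 5, (x * y * ((x * y * x * y⁻¹) ^ 3)) ^ 4,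
    ((x * y * x * y * x * y⁻¹) ^ 3) * ((x * y * x * y⁻¹ * x * y⁻¹) ^ 3)]

/-- the seven relators as a set -/
abbrev rels7 : Set (FreeGroup Bool) := {r | r ∈ r7}

/-- the group presented by them -/
abbrev M : Type := PresentedGroup rels7

/-- the two generators in the presented Janko group -/
def mGen : Bool → Cfsg.Spor.J4 := fun b => if b then gen .y else gen .x

theorem mGen_rels : ∀ r ∈ rels7, FreeGroup.lift mGen r = 1 := by
  intro r hr
  have e : FreeGroup.lift gen = PresentedGroup.mk rels := FreeGroup.ext_hom _ _ fun g => by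
    rw [FreeGroup.lift_apply_of]; rfl
  have h1 : ∀ s ∈ J4.extra, FreeGroup.lift gen s = 1 := fun s hs => by
    rw [e]; exact PresentedGroup.one_of_mem (Or.inr hs)
  simp only [J4.extra, List.forall_mem_cons, J4.x, J4.y, J4.t, map_mul, map_pow, map_inv,
    FreeGroup.lift_apply_of] at h1
  obtain ⟨a1, a2, a3, a4, a5, a6, a7, -⟩ := h1
  simp only [rels7, r7, Set.mem_setOf_eq, List.mem_cons, List.not_mem_nil, or_false] at hr
  rcases hr with rfl | rfl | rfl | rfl | rfl | rfl | rfl <;>
    simp only [map_mul, map_pow, map_inv, FreeGroup.lift_apply_of, mGen, Bool.false_eq_true,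
      if_false, if_true]
  exacts [a1, a2, a3, a4, a5, a6, a7]

/-- the map of the presented group into the Janko group -/
def ψ : M →* Cfsg.Spor.J4 := PresentedGroup.toGroup mGen_rels

/-- the value of a letter in the presented group -/
def mlet : Nat → M
  | 0 => PresentedGroup.of false | 1 => PresentedGroup.of true | 3 => (PresentedGroup.of true)⁻¹ | _ => 1

/-- the element moving the vectors as the word does, in the presented group -/
def mEl (w : List Nat) : M := (w.reverse.map fun c => mlet (ix c)).prod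

/-- the letters are among the first two generators and the inverse of the second -/
def lt013 (w : List Nat) : Bool := w.all fun x => Nat.beq x 0 || Nat.beq x 1 || Nat.beq x 3

theorem lt013_iff {w : List Nat} : lt013 w = true ↔ ∀ x ∈ w, x ∈ [0, 1, 3] := by
  simp [lt013, List.all_eq_true, or_assoc]

theorem mEl_cons (c : Nat) (w : List Nat) : mEl (c :: w) = mEl w * mlet (ix c) := by simp [mEl]

variable [Faith]

theorem ψ_mlet {c : Nat} (hc : c ∈ [0, 1, 3]) : ψ (mlet (ix c)) = El [c] := by
  have hv : ∀ i, i < 4 → vals.getD i 1 = lets gen i := by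
    intro i hi
    interval_cases i <;> rfl
  have hE : ∀ i, i < 4 → El [i] = (lets gen i)⁻¹ := fun i hi => by
    simp only [El, List.map_cons, List.map_nil, List.prod_cons, List.prod_nil, mul_one, hv i hi]
  have hof : ∀ b, ψ (PresentedGroup.of b) = mGen b := fun b => PresentedGroup.toGroup.of mGen_rels
  fin_cases hc
  · have := El_ix (c := 0) (by simp)
    rw [show ix 0 = 0 from rfl, hE 0 (by norm_num), inv_inv] at this
    rw [hE 0 (by norm_num)]
    show ψ (mlet 0) = (gen J4.Gen.x)⁻¹
    rw [show (gen J4.Gen.x)⁻¹ = gen J4.Gen.x from this]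
    exact hof false
  · rw [hE 1 (by norm_num)]
    show ψ (mlet 3) = (gen J4.Gen.y)⁻¹
    rw [show mlet 3 = (PresentedGroup.of true)⁻¹ from rfl, map_inv, hof]
    rfl
  · rw [hE 3 (by norm_num)]
    show ψ (mlet 1) = (gen J4.Gen.y)⁻¹⁻¹
    rw [inv_inv]
    exact hof true

theorem ψ_mEl : ∀ {w : List Nat}, lt013 w = true → ψ (mEl w) = El w := by
  intro w
  induction w with
  | nil => intro _; simp [mEl, El_nil]
  | cons c w ih =>
    intro h
    rw [lt013_iff, List.forall_mem_cons] at h
    rw [mEl_cons, map_mul, ih (lt013_iff.2 h.2), ψ_mlet h.1]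
    exact (El_cons c w).symm

theorem El_mem_range {w : List Nat} (h : lt013 w = true) : El w ∈ ψ.range := ⟨mEl w, ψ_mEl h⟩

theorem range_induction {p : Cfsg.Spor.J4 → Prop} (h1 : p 1)
    (hstep : ∀ c ∈ [0, 1, 3], ∀ g, p g → p (El [c] * g)) (m : M) : p (ψ m) := by
  have hm : m ∈ Subgroup.closure (Set.range (PresentedGroup.of (rels := rels7))) := by
    rw [PresentedGroup.closure_range_of]; exact Subgroup.mem_top m
  induction hm using Subgroup.closure_induction_left with
  | one => rwa [map_one]
  | mul_left x hx y hy ih =>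
    obtain ⟨b, rfl⟩ := hx
    cases b
    · rw [map_mul, show PresentedGroup.of false = mlet (ix 0) from rfl, ψ_mlet (by simp)]
      exact hstep 0 (by simp) _ ih
    · rw [map_mul, show PresentedGroup.of true = mlet (ix 3) from rfl, ψ_mlet (by simp)]
      exact hstep 3 (by simp) _ ih
  | inv_mul_cancel x hx y hy ih =>
    obtain ⟨b, rfl⟩ := hx
    cases b
    · rw [map_mul, map_inv, show PresentedGroup.of false = mlet (ix 0) from rfl, ψ_mlet (by simp),
        ← El_ix (by simp)]
      exact hstep 0 (by simp) _ ih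
    · rw [map_mul, map_inv, show PresentedGroup.of true = mlet (ix 3) from rfl, ψ_mlet (by simp),
        ← El_ix (by simp)]
      exact hstep 1 (by simp) _ ih

theorem conj_range {Z : Nat → Prop} (hZlt : ∀ a, Z a → a < 2 ^ 11)
    (hZ : ∀ c ∈ [0, 1, 3], ∀ a, Z a → Z (cm c a)) (m : M) :
    ∀ a, Z a → ∃ b, Z b ∧ ψ m * e a * (ψ m)⁻¹ = e b := by
  refine range_induction (p := fun g => ∀ a, Z a → ∃ b, Z b ∧ g * e a * g⁻¹ = e b)
    (fun a ha => ⟨a, ha, by simp⟩) (fun c hc g hg a ha => ?_) m
  obtain ⟨b, hb, e1⟩ := hg a ha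
  refine ⟨cm c b, hZ c hc b hb, ?_⟩
  rw [← e_conj hc (hZlt b hb), ← e1]
  group

theorem conj_all (m : M) {a : Nat} (ha : a < 2 ^ 11) :
    ∃ b < 2 ^ 11, ψ m * e a * (ψ m)⁻¹ = e b :=
  conj_range (Z := (· < 2 ^ 11)) (fun _ h => h) (fun _ _ _ _ => cm_lt) m a ha

/-- membership in the orbit of the involution -/
noncomputable def zmem (a : Nat) : Bool :=
  Nat.beq (Nat.land (Nat.shiftRight zSet a) (nat_lit 1)) (nat_lit 1)

/-- the recorded step of a code -/
noncomputable def zStep (a : Nat) : Nat :=
  Nat.land (Nat.shiftRight zPar (Nat.mul a (nat_lit 20))) (nat_lit 1048575)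

/-- the orbit is closed and connected at a code -/
noncomputable def zTreeOK (a : Nat) : Bool :=
  !zmem a || (zmem (cm 0 a) && zmem (cm 1 a) && zmem (cm 3 a) && (Nat.beq a (nat_lit 1) ||
    forceN (zStep a) fun r => forceN (Nat.land r (nat_lit 2047)) fun p =>
      forceN (Nat.land (Nat.shiftRight r (nat_lit 11)) (nat_lit 3)) fun c =>
        zmem p && Nat.blt p (nat_lit 2048) && !Nat.beq c (nat_lit 2) && Nat.beq (cm c p) a &&
          Nat.blt (Nat.shiftRight (zStep p) (nat_lit 13)) (Nat.shiftRight r (nat_lit 13))))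

omit [Faith] in
theorem ztree0 : (allBelow (nat_lit 512) fun a => zTreeOK a) = true := by decide +kernel
omit [Faith] in
theorem ztree1 : (allBelow (nat_lit 512) fun a => zTreeOK (Nat.add 512 a)) = true := by decide +kernel
omit [Faith] in
theorem ztree2 : (allBelow (nat_lit 512) fun a => zTreeOK (Nat.add 1024 a)) = true := by decide +kernel
omit [Faith] in
theorem ztree3 : (allBelow (nat_lit 512) fun a => zTreeOK (Nat.add 1536 a)) = true := by decide +kernel

omit [Faith] in
theorem zmem_lt {a : Nat} (h : zmem a = true) : a < 2 ^ 11 := by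
  by_contra hc
  push Not at hc
  have hz : zSet < 2 ^ 2048 := by decide +kernel
  have : zSet >>> a = 0 := by
    rw [Nat.shiftRight_eq_div_pow]
    exact Nat.div_eq_of_lt (lt_of_lt_of_le hz (Nat.pow_le_pow_right (by norm_num) hc))
  have h' : Nat.beq ((zSet >>> a) &&& 1) 1 = true := h
  rw [this] at h'
  exact absurd h' (by decide)

omit [Faith] in
theorem ztree {a : Nat} (h : zmem a = true) : zTreeOK a = true := by
  have ha := zmem_lt h
  rcases lt_or_ge a 512 with h1 | h1
  · exact allBelow_spec ztree0 a h1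
  rcases lt_or_ge a 1024 with h2 | h2
  · have h := allBelow_spec ztree1 (a - 512) (show a - 512 < 512 by omega)
    rwa [show Nat.add 512 (a - 512) = a from Nat.add_sub_cancel' h1] at h
  rcases lt_or_ge a 1536 with h3 | h3
  · have h := allBelow_spec ztree2 (a - 1024) (show a - 1024 < 512 by omega)
    rwa [show Nat.add 1024 (a - 1024) = a from Nat.add_sub_cancel' h2] at h
  · have h := allBelow_spec ztree3 (a - 1536) (show a - 1536 < 512 by omega)
    rwa [show Nat.add 1536 (a - 1536) = a from Nat.add_sub_cancel' h3] at h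

theorem conj_z (m : M) {a : Nat} (ha : zmem a = true) :
    ∃ b, zmem b = true ∧ ψ m * e a * (ψ m)⁻¹ = e b := by
  refine conj_range (Z := fun a => zmem a = true) (fun _ h => zmem_lt h) (fun c hc a ha => ?_) m a ha
  have := ztree ha
  simp only [zTreeOK, ha, Bool.not_true, Bool.false_or, Bool.and_eq_true] at this
  fin_cases hc
  exacts [this.1.1.1, this.1.1.2, this.1.2]

theorem z_conj_word {a : Nat} (ha : zmem a = true) :
    ∃ w, lt013 w = true ∧ El w * z * (El w)⁻¹ = e a := by
  suffices ∀ n a, zmem a = true → zStep a >>> 13 ≤ n →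
      ∃ w, lt013 w = true ∧ El w * z * (El w)⁻¹ = e a from this _ a ha le_rfl
  intro n
  induction n using Nat.strong_induction_on with
  | _ n ih =>
    intro a ha hn
    rcases eq_or_ne a 1 with rfl | h1
    · exact ⟨[], rfl, by simp [El_nil, z]⟩
    have hh := ztree ha
    simp only [zTreeOK, ha, Bool.not_true, Bool.false_or, Bool.and_eq_true, Bool.or_eq_true,
      Nat.beq_eq, forceN_eq, Bool.not_eq_true', Nat.blt_eq] at hh
    obtain ⟨⟨⟨⟨hp, hplt⟩, hc2⟩, hcm⟩, hd⟩ := hh.2.resolve_left h1
    generalize hr : zStep a = r at hp hplt hc2 hcm hd hn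
    have hd' : zStep (r &&& 2047) >>> 13 < r >>> 13 := hd
    obtain ⟨w, hw, ew⟩ := ih _ (lt_of_lt_of_le hd' hn) (r &&& 2047) hp le_rfl
    have hc : (r >>> 11) &&& 3 ∈ [0, 1, 3] := by
      have h4 : (r >>> 11) &&& 3 ≤ 3 := Nat.and_le_right
      have h2 : (r >>> 11) &&& 3 ≠ 2 := fun h => by
        rw [show Nat.land (Nat.shiftRight r 11) 3 = (r >>> 11) &&& 3 from rfl, h] at hc2
        exact absurd hc2 (by decide)
      simp only [List.mem_cons, List.not_mem_nil, or_false]
      omega
    refine ⟨w ++ [(r >>> 11) &&& 3], ?_, ?_⟩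
    · rw [lt013_iff] at hw ⊢
      intro x hx
      rcases List.mem_append.1 hx with hx | hx
      · exact hw x hx
      · rw [List.mem_singleton.1 hx]; exact hc
    · have hcm' : cm ((r >>> 11) &&& 3) (r &&& 2047) = a := hcm
      have hplt' : r &&& 2047 < 2 ^ 11 := hplt
      rw [El_append, ← hcm', ← e_conj hc hplt', ← ew]
      group

/-- the elements of the presented group centralising the involution -/
def S0 : Subgroup M := (Subgroup.centralizer ({z} : Set Cfsg.Spor.J4)).comap ψ

omit [Faith] in
theorem mem_S0 {m : M} : m ∈ S0 ↔ ψ m * z * (ψ m)⁻¹ = z := by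
  rw [S0, Subgroup.mem_comap, Subgroup.mem_centralizer_singleton_iff, mul_inv_eq_iff_eq_mul]

theorem zcount : ((List.range 2048).filter zmem).length = 1771 := by decide +kernel

theorem card_S0 [Finite M] (hM : Nat.card M ≤ 244823040) : Nat.card S0 ≤ 138240 := by
  have hwell : ∀ m n : M, m⁻¹ * n ∈ S0 → ψ m * z * (ψ m)⁻¹ = ψ n * z * (ψ n)⁻¹ := by
    intro m n h
    rw [mem_S0, map_mul, map_inv] at h
    conv_lhs => rw [← h]
    group
  let f : M ⧸ S0 → Cfsg.Spor.J4 := Quotient.lift (fun m => ψ m * z * (ψ m)⁻¹) (by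
    intro m n h
    exact hwell m n (QuotientGroup.leftRel_apply.1 h))
  let g : Fin 1771 → Cfsg.Spor.J4 := fun i =>
    e (((List.range 2048).filter zmem).get (i.cast zcount.symm))
  have hz : ∀ i : Fin 1771, zmem (((List.range 2048).filter zmem).get (i.cast zcount.symm)) = true :=
    fun i => (List.mem_filter.1 (List.get_mem _ _)).2
  have hg : Function.Injective g := fun i j h => by
    have := e_inj (zmem_lt (hz i)) (zmem_lt (hz j)) h
    have := (List.nodup_range.filter _).injective_get this
    simpa using this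
  have hmem : ∀ i, g i ∈ Set.range f := fun i => by
    obtain ⟨w, hw, ew⟩ := z_conj_word (hz i)
    refine ⟨(mEl w : M ⧸ S0), ?_⟩
    show ψ (mEl w) * z * (ψ (mEl w))⁻¹ = _
    rw [ψ_mEl hw, ew]
  choose k hk using hmem
  have hki : Function.Injective k := fun i j h => hg (by rw [← hk i, ← hk j, h])
  have h1 := Nat.card_le_card_of_injective k hki
  rw [Nat.card_fin] at h1
  have h2 := S0.card_mul_index
  rw [Subgroup.index_eq_card] at h2
  have := Nat.mul_le_mul_left (Nat.card S0) h1
  rw [h2] at this
  omega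

end CfsgLib.Spor.J4Cent
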