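import Cfsg.Agent.Lib.Spor.J4Cent.Mgrp
import Cfsg.Agent.Lib.Spor.J4Cent.PermData
import Cfsg.Agent.Lib.KnownA.MathieuOut.Packed

/-!
Four elements generate the centraliser of the involution in the subgroup on the first two
generators.
-/

set_option autoImplicit false
set_option maxRecDepth 100000
set_option maxHeartbeats 1000000

namespace CfsgLib.Spor.J4Cent

open Cfsg Cfsg.Spor CfsgLib.Spor CfsgLib.MathieuOut

theorem isPerm_pX : isPermP pX = true := by decide +kernel
theorem isPerm_pY : isPermP pY = true := by decide +kernel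

/-- the permutation of the first generator -/
noncomputable def sX : Equiv.Perm GolayPt := (exists_rep isPerm_pX).choose
/-- the permutation of the second generator -/
noncomputable def sY : Equiv.Perm GolayPt := (exists_rep isPerm_pY).choose

theorem rep_sX : Rep sX pX := (exists_rep isPerm_pX).choose_spec
theorem rep_sY : Rep sY pY := (exists_rep isPerm_pY).choose_spec

/-- packed values of the letters -/
noncomputable def gs4 : List ℕ := [pX, pY, idP, compP pY pY]

/-- permutations of the letters -/
noncomputable def ss4 : List (Equiv.Perm GolayPt) := [sX, sY, 1, sY * sY]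

theorem rep_gs4 : ∀ i, CfsgLib.Spor.Rep (ss4.getD i 1) (gs4.getD i idP)
  | 0 => rep_sX
  | 1 => rep_sY
  | 2 => rep_idP
  | 3 => rep_sY.mul rep_sY
  | _ + 4 => by simp only [ss4, gs4, List.getD_cons_succ, List.getD_nil]; exact rep_idP

/-- number of a letter of a relator -/
def code7 : Bool × Bool → ℕ
  | (false, _) => 0 | (true, true) => 1 | (true, false) => 3

theorem perm7_ok : ((List.range 7).all fun k =>
    eqP (MathieuOut.evalW gs4 ((r7.getD k 1).toWord.map code7)) idP) = true := by decide +kernel

theorem pair7_ok : (eqP (MathieuOut.evalW gs4 [0, 0]) idP &&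
    eqP (MathieuOut.evalW gs4 [1, 3]) idP) = true := by
  decide +kernel

/-- permutations of the two generators -/
noncomputable def gen24 : Bool → Equiv.Perm GolayPt := fun b => if b then sY else sX

theorem sX_inv : sX⁻¹ = sX := by
  have := pair7_ok
  simp only [Bool.and_eq_true] at this
  have h := (eqP_iff (rep_evalW rep_gs4 [0, 0]) rep_idP).1 this.1
  exact inv_eq_of_mul_eq_one_right (by simpa [ss4] using h)

theorem sY_inv : sY⁻¹ = sY * sY := by
  have := pair7_ok
  simp only [Bool.and_eq_true] at this
  have h := (eqP_iff (rep_evalW rep_gs4 [1, 3]) rep_idP).1 this.2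
  exact inv_eq_of_mul_eq_one_right (by simpa [ss4, mul_assoc] using h)

theorem gen24_rels : ∀ r ∈ rels7, FreeGroup.lift gen24 r = 1 := by
  intro r hr
  obtain ⟨k, hk, rfl⟩ : ∃ k, k < 7 ∧ r7.getD k 1 = r := by
    obtain ⟨k, hk, rfl⟩ := List.getElem_of_mem hr
    exact ⟨k, hk, List.getD_eq_getElem _ _ hk⟩
  have e : FreeGroup.lift gen24 (r7.getD k 1) =
      (((r7.getD k 1).toWord.map code7).map fun i => ss4.getD i 1).prod := by
    conv_lhs => rw [← FreeGroup.mk_toWord (x := r7.getD k 1)]
    rw [FreeGroup.lift_mk, List.map_map]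
    refine congrArg List.prod (List.map_congr_left fun p _ => ?_)
    rcases p with ⟨_ | _, _ | _⟩
    · exact sX_inv
    · rfl
    · exact sY_inv
    · rfl
  rw [e]
  have := perm7_ok
  simp only [List.all_eq_true, List.mem_range] at this
  exact (eqP_iff (rep_evalW rep_gs4 _) rep_idP).1 (this k hk)

/-- the action on 24 points -/
noncomputable def φ24 : M →* Equiv.Perm GolayPt := PresentedGroup.toGroup gen24_rels

/-- the letters of a word reversed and inverted -/
def revW (w : List ℕ) : List ℕ := w.reverse.map ix

theorem φ24_mEl : ∀ {w : List ℕ}, lt013 w = true →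
    φ24 (mEl w) = ((revW w).map fun i => ss4.getD i 1).prod := by
  intro w hw
  rw [mEl, map_list_prod, revW, List.map_map, List.map_map]
  refine congrArg List.prod (List.map_congr_left fun c hc => ?_)
  have := lt013_iff.1 hw c (List.mem_reverse.1 hc)
  have hof : ∀ b, φ24 (PresentedGroup.of b) = gen24 b := fun b => PresentedGroup.toGroup.of gen24_rels
  fin_cases this
  · exact hof false
  · show φ24 (PresentedGroup.of true)⁻¹ = sY * sY
    rw [map_inv, hof, ← sY_inv]
    rfl
  · exact hof true

/-- the words of the four generators -/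
def kW : List (List ℕ) := (cIds.take 4).map fun i => defs.getD (i - 4) []

/-- the subgroup generated by the four elements -/
def K : Subgroup M := Subgroup.closure {g | ∃ w ∈ kW, mEl w = g}

theorem kW_ok : ((List.range 4).all fun i => lt013 (kW.getD i []) &&
    eqP (MathieuOut.evalW gs4 (revW (kW.getD i []))) (kPerm.getD i 0)) = true := by decide +kernel

theorem kW_cIds : ∀ i < 4, kW.getD i [] = defs.getD (cIds.getD i 0 - 4) [] := by decide

theorem kW_length : kW.length = 4 := rfl

theorem lt013_kW : ∀ w ∈ kW, lt013 w = true := by decide +kernel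

variable [Faith]

theorem kW_comm : ∀ w ∈ kW, El w * z * (El w)⁻¹ = z := by
  have h : (kW.all fun w => sameM ([eIds.getD 0 0] ++ w) (w ++ [eIds.getD 0 0])) = true := by
    decide +kernel
  intro w hw
  have h1 : eWL eIds 1 = [eIds.getD 0 0] := by decide
  have h3 := lt36_iff.2 fun x hx => show x < 36 by
    have := lt013_iff.1 (lt013_kW w hw) x hx
    fin_cases this <;> norm_num
  have e : El (eWL eIds 1 ++ w) = El (w ++ eWL eIds 1) := El_eq_of_sameM (by
    simp only [Bool.and_eq_true, lt36_append]
    refine ⟨⟨⟨lt36_eW 1, h3⟩, h3, lt36_eW 1⟩, ?_⟩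
    rw [h1]; exact List.all_eq_true.1 h w hw)
  rw [El_append, El_append] at e
  rw [mul_inv_eq_iff_eq_mul]
  exact e

theorem K_le_S0 : K ≤ S0 := by
  rw [K, Subgroup.closure_le]
  rintro _ ⟨w, hw, rfl⟩
  rw [SetLike.mem_coe, mem_S0, ψ_mEl (lt013_kW w hw)]
  exact kW_comm w hw

theorem kLev_low : levelsLow [] kLev = true := by decide +kernel
theorem kRows_ok : checkSLP kRows kPerm = true := by decide +kernel
theorem kLev_sub : (kLev.all fun l => l.2.all fun t => Nat.beq t idP || kPerm.any (Nat.beq t) ||
    kRows.any fun e => Nat.beq t e.1) = true := by decide +kernel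
theorem kLev_prod : (kLev.map fun l => l.2.length).prod = 138240 := by decide +kernel

theorem K_eq [Finite M] (hM : Nat.card M ≤ 244823040) : K = S0 := by
  refine Subgroup.eq_of_le_of_card_ge K_le_S0 ((card_S0 hM).trans ?_)
  have hin : ∀ a ∈ kPerm, RepIn (K.map φ24) a := by
    intro a ha
    obtain ⟨i, hi, rfl⟩ := List.getElem_of_mem ha
    have hi4 : i < 4 := hi
    have := kW_ok
    simp only [List.all_eq_true, List.mem_range, Bool.and_eq_true] at this
    obtain ⟨h1, h2⟩ := this i hi4
    refine ⟨φ24 (mEl (kW.getD i [])), Subgroup.mem_map_of_mem _ (Subgroup.subset_closure ?_), ?_⟩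
    · exact ⟨_, by rw [List.getD_eq_getElem _ _ (kW_length ▸ hi4)]; exact List.getElem_mem _, rfl⟩
    · rw [φ24_mEl h1, ← List.getD_eq_getElem kPerm 0 hi]
      intro j hj
      simp only [eqP, List.all_eq_true, List.mem_range, Nat.beq_eq] at h2
      rw [← h2 j hj]
      exact rep_evalW rep_gs4 _ j hj
  have hall := repIn_of_checkSLP kRows kPerm kRows_ok hin
  have hT : ∀ l ∈ kLev, ∀ t ∈ l.2, RepIn (K.map φ24) t := by
    intro l hl t ht
    have h0 := List.all_eq_true.1 (List.all_eq_true.1 kLev_sub l hl) t ht
    simp only [Bool.or_eq_true, Nat.beq_eq, List.any_eq_true] at h0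
    rcases h0 with (h | ⟨e, he, h⟩) | ⟨e, he, h⟩
    · rw [h, ← idP_eq]; exact RepIn.one _
    · rw [h]; exact hin e he
    · rw [h]; exact hall e he
  have := prod_le_card kLev [] kLev_low (by simp) hT
  rw [kLev_prod] at this
  calc 138240 ≤ Nat.card (fixL (K.map φ24) []) := this
    _ = Nat.card (K.map φ24) := rfl
    _ ≤ Nat.card K := Nat.card_le_card_of_surjective (φ24.subgroupMap K)
        (φ24.subgroupMap_surjective K)

end CfsgLib.Spor.J4Cent
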