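import Cfsg.Agent.Lib.Spor.J4Cent.Mgrp

/-!
The check of one representative against all conjugates of the involution.
-/

set_option autoImplicit false

namespace CfsgLib.Spor.J4Cent

open CfsgLib.PresCert

/-- membership in the list of 77 vectors -/
noncomputable def inPts (v : Nat) : Bool := forceN v fun v => pts.any (Nat.beq v)

/-- a code is either moved or among the survivors -/
noncomputable def leafOK (w : Nat) (fs : List Nat) (sv : List (Nat × List Nat)) (a v : Nat) : Bool :=
  !zmem a || !Nat.beq v w || sv.any (fun p => Nat.beq p.1 a) ||
    fs.any fun f => forceN (app (eWL eIds a) f) fun f' => !Nat.beq f' f && !Nat.beq f' (Nat.xor f w)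

/-- the scan of the codes for a representative -/
noncomputable def scanOK (i : Nat) : Bool :=
  forceN (app (reps.getD i []) v0) fun w =>
    !Nat.beq w v0 &&
      scanB (leafOK w (us.map fun f => app (reps.getD i []) f) (surv.getD i [])) eIds 1 0 w

/-- the survivors have transporters -/
noncomputable def survOK (i : Nat) : Bool :=
  (surv.getD i []).all fun p => lt013 p.2 &&
    Nat.beq (p.2.foldl (fun a c => cm c a) (nat_lit 1)) p.1 &&
    inPts (app (reps.getD i [] ++ p.2.reverse.map ix) v0)

end CfsgLib.Spor.J4Cent
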