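import Cfsg.Agent.Lib.Spor.J4Cent.Phi
import Cfsg.Agent.Lib.Spor.J4Cent.ScanDefs

/-!
The 77 vectors are permuted by the named generators, which commute with the involution.
-/

set_option linter.all false
set_option maxRecDepth 100000
set_option maxHeartbeats 1000000

namespace CfsgLib.Spor.J4Cent

open CfsgLib.PresCert

/-- one named element preserves the vectors and commutes with the involution -/
noncomputable def genOK (x : Nat) : Bool :=
  (pts.all fun p => inPts (app [x] p)) &&
    sameM ([eIds.getD 0 0] ++ [x]) ([x] ++ [eIds.getD 0 0])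

theorem genOK4 : genOK 4 = true := by decide +kernel
theorem genOK15 : genOK 15 = true := by decide +kernel
theorem genOK16 : genOK 16 = true := by decide +kernel
theorem genOK17 : genOK 17 = true := by decide +kernel
theorem genOK18 : genOK 18 = true := by decide +kernel
theorem genOK19 : genOK 19 = true := by decide +kernel
theorem genOK20 : genOK 20 = true := by decide +kernel
theorem genOK21 : genOK 21 = true := by decide +kernel
theorem genOK22 : genOK 22 = true := by decide +kernel
theorem genOK23 : genOK 23 = true := by decide +kernel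
theorem genOK24 : genOK 24 = true := by decide +kernel
theorem genOK25 : genOK 25 = true := by decide +kernel
theorem genOK26 : genOK 26 = true := by decide +kernel
theorem genOK27 : genOK 27 = true := by decide +kernel
theorem genOK28 : genOK 28 = true := by decide +kernel
theorem genOK29 : genOK 29 = true := by decide +kernel
theorem genOK30 : genOK 30 = true := by decide +kernel
theorem genOK31 : genOK 31 = true := by decide +kernel
theorem genOK32 : genOK 32 = true := by decide +kernel
theorem genOK33 : genOK 33 = true := by decide +kernel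
theorem genOK34 : genOK 34 = true := by decide +kernel
theorem genOK35 : genOK 35 = true := by decide +kernel

/-- the named elements of the centraliser -/
def cenIds : List Nat := [4, 15, 16, 17, 18, 19, 20, 21, 22, 23, 24, 25, 26, 27, 28, 29, 30, 31, 32, 33, 34, 35]

theorem genOK_all : ∀ x ∈ cenIds, genOK x = true := by
  simp only [cenIds, List.forall_mem_cons, List.not_mem_nil, false_imp_iff, forall_const, and_true]
  exact ⟨genOK4, genOK15, genOK16, genOK17, genOK18, genOK19, genOK20, genOK21, genOK22, genOK23, genOK24, genOK25, genOK26, genOK27, genOK28, genOK29, genOK30, genOK31, genOK32, genOK33, genOK34, genOK35⟩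

theorem cenIds_lt : ∀ x ∈ cenIds, x < 36 := by decide

theorem inPts_iff {v : Nat} : inPts v = true ↔ v ∈ pts := by
  simp [inPts, List.any_eq_true]

theorem pts_lt : ∀ p ∈ pts, p < 2 ^ 112 := by decide +kernel

theorem pts_nodup : pts.Nodup := by decide +kernel

theorem pts_length : pts.length = 77 := rfl

theorem v0_mem : v0 ∈ pts := by decide +kernel

theorem v0_lt : v0 < 2 ^ 112 := pts_lt _ v0_mem

/-- the fixed vector -/
def vV : V := ⟨v0, v0_lt⟩

/-- the elements permuting the 77 vectors -/
noncomputable def Pts : Subgroup Cfsg.Spor.J4 where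
  carrier := {g | ∀ v : V, (π g v).1 ∈ pts ↔ v.1 ∈ pts}
  one_mem' := by simp
  mul_mem' := fun {g h} hg hh v => by rw [map_mul, Equiv.Perm.mul_apply, hg, hh]
  inv_mem' := fun {g} hg v => by
    rw [← hg, map_inv]
    simp

theorem mem_Pts_of_mapsTo {g : Cfsg.Spor.J4} (h : ∀ v : V, v.1 ∈ pts → (π g v).1 ∈ pts) :
    g ∈ Pts := by
  intro v
  refine ⟨fun hv => ?_, h v⟩
  classical
  have : Fintype {v : V // v.1 ∈ pts} := Fintype.ofEquiv {p : Nat // p ∈ pts.toFinset}
    { toFun := fun p => ⟨⟨p.1, pts_lt _ (List.mem_toFinset.1 p.2)⟩, List.mem_toFinset.1 p.2⟩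
      invFun := fun v => ⟨v.1.1, List.mem_toFinset.2 v.2⟩
      left_inv := fun _ => rfl
      right_inv := fun _ => rfl }
  let f : {v : V // v.1 ∈ pts} → {v : V // v.1 ∈ pts} := fun v => ⟨π g v.1, h _ v.2⟩
  have hf : Function.Injective f := fun a b e =>
    Subtype.ext ((π g).injective (congrArg Subtype.val e))
  obtain ⟨w, hw⟩ := (Finite.injective_iff_surjective.1 hf) ⟨π g v, hv⟩
  have : w.1 = v := (π g).injective (congrArg Subtype.val hw)
  exact this ▸ w.2

variable [Faith]

theorem El_mem_Pts {x : Nat} (hx : x ∈ cenIds) : El [x] ∈ Pts := by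
  refine mem_Pts_of_mapsTo fun v hv => ?_
  rw [π_El (lt36_iff.2 (by simpa using cenIds_lt x hx))]
  have h := genOK_all x hx
  simp only [genOK, Bool.and_eq_true, List.all_eq_true] at h
  exact inPts_iff.1 (h.1 _ hv)

theorem El_comm_z {x : Nat} (hx : x ∈ cenIds) : El [x] * z = z * El [x] := by
  have h := genOK_all x hx
  simp only [genOK, Bool.and_eq_true] at h
  have h1 : eWL eIds 1 = [eIds.getD 0 0] := by decide
  have e := El_eq_of_sameM (u := [eIds.getD 0 0] ++ [x]) (w := [x] ++ [eIds.getD 0 0]) (by
    simp only [Bool.and_eq_true]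
    refine ⟨⟨lt36_iff.2 ?_, lt36_iff.2 ?_⟩, h.2⟩ <;>
      · intro y hy
        simp only [List.singleton_append, List.mem_cons, List.not_mem_nil, or_false] at hy
        rcases hy with rfl | rfl
        all_goals first | exact cenIds_lt _ hx | decide)
  rw [El_append, El_append, ← h1] at e
  exact e

theorem S0_le_Pts [Finite M] (hM : Nat.card M ≤ 244823040) : ∀ m ∈ S0, ψ m ∈ Pts := by
  rw [← K_eq hM]
  suffices K ≤ Pts.comap ψ from fun m hm => this hm
  rw [K, Subgroup.closure_le]
  rintro _ ⟨w, hw, rfl⟩
  show ψ (mEl w) ∈ Pts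
  rw [ψ_mEl (lt013_kW w hw)]
  obtain ⟨i, hi, rfl⟩ := List.getElem_of_mem hw
  have hi4 : i < 4 := hi
  have e : El (kW.getD i []) = El [cIds.getD i 0] := by
    refine (El_eq_of_sameM ?_).symm
    have h1 : (lt36 [cIds.getD i 0] && lt36 (kW.getD i [])) = true ∧
        cIds.getD i 0 - 4 + 4 = cIds.getD i 0 ∧ cIds.getD i 0 - 4 < defs.length := by
      interval_cases i <;> decide
    rw [Bool.and_eq_true]
    refine ⟨h1.1, ?_⟩
    have := defs_ok _ h1.2.2
    rwa [h1.2.1, ← kW_cIds i hi4] at this
  rw [← List.getD_eq_getElem (d := []) kW hi, e]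
  exact El_mem_Pts (by interval_cases i <;> decide)

end CfsgLib.Spor.J4Cent
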