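import Cfsg.Agent.Lib.Spor.J4Cent.ScanDefs

/-!
Scans of the representatives, part 0.
-/

set_option linter.all false
set_option maxRecDepth 100000

namespace CfsgLib.Spor.J4Cent

theorem scan1_ok : scanOK 1 = true := by decide +kernel
theorem surv1_ok : survOK 1 = true := by decide +kernel
theorem scan2_ok : scanOK 2 = true := by decide +kernel
theorem surv2_ok : survOK 2 = true := by decide +kernel
theorem scan3_ok : scanOK 3 = true := by decide +kernel
theorem surv3_ok : survOK 3 = true := by decide +kernel
theorem scan4_ok : scanOK 4 = true := by decide +kernel
theorem surv4_ok : survOK 4 = true := by decide +kernel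
theorem scan5_ok : scanOK 5 = true := by decide +kernel
theorem surv5_ok : survOK 5 = true := by decide +kernel

end CfsgLib.Spor.J4Cent
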