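import Cfsg.Agent.Lib.Spor.J4Cent.ScanDefs

/-!
Scans of the representatives, part 1.
-/

set_option linter.all false
set_option maxRecDepth 100000

namespace CfsgLib.Spor.J4Cent

theorem scan6_ok : scanOK 6 = true := by decide +kernel
theorem surv6_ok : survOK 6 = true := by decide +kernel
theorem scan7_ok : scanOK 7 = true := by decide +kernel
theorem surv7_ok : survOK 7 = true := by decide +kernel
theorem scan8_ok : scanOK 8 = true := by decide +kernel
theorem surv8_ok : survOK 8 = true := by decide +kernel
theorem scan9_ok : scanOK 9 = true := by decide +kernel
theorem surv9_ok : survOK 9 = true := by decide +kernel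
theorem scan10_ok : scanOK 10 = true := by decide +kernel
theorem surv10_ok : survOK 10 = true := by decide +kernel

end CfsgLib.Spor.J4Cent
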