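import Cfsg.Agent.Lib.Spor.J4Cent.ScanDefs

/-!
Scans of the representatives, part 2.
-/

set_option linter.all false
set_option maxRecDepth 100000

namespace CfsgLib.Spor.J4Cent

theorem scan11_ok : scanOK 11 = true := by decide +kernel
theorem surv11_ok : survOK 11 = true := by decide +kernel
theorem scan12_ok : scanOK 12 = true := by decide +kernel
theorem surv12_ok : survOK 12 = true := by decide +kernel
theorem scan13_ok : scanOK 13 = true := by decide +kernel
theorem surv13_ok : survOK 13 = true := by decide +kernel
theorem scan14_ok : scanOK 14 = true := by decide +kernel
theorem surv14_ok : survOK 14 = true := by decide +kernel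
theorem scan15_ok : scanOK 15 = true := by decide +kernel
theorem surv15_ok : survOK 15 = true := by decide +kernel

end CfsgLib.Spor.J4Cent
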