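import Cfsg.Agent.Lib.Spor.J4Cent.ScanDefs

/-!
Scans of the representatives, part 3.
-/

set_option linter.all false
set_option maxRecDepth 100000

namespace CfsgLib.Spor.J4Cent

theorem scan16_ok : scanOK 16 = true := by decide +kernel
theorem surv16_ok : survOK 16 = true := by decide +kernel
theorem scan17_ok : scanOK 17 = true := by decide +kernel
theorem surv17_ok : survOK 17 = true := by decide +kernel
theorem scan18_ok : scanOK 18 = true := by decide +kernel
theorem surv18_ok : survOK 18 = true := by decide +kernel
theorem scan19_ok : scanOK 19 = true := by decide +kernel
theorem surv19_ok : survOK 19 = true := by decide +kernel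

end CfsgLib.Spor.J4Cent
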