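import Cfsg.Agent.Lib.Spor.J4Cent.Main
import Cfsg.Agent.Lib.Spor.J4Cent.FromIndex
import Cfsg.Agent.Lib.Spor.J4Cent.Faith
import Cfsg.Agent.Lib.Spor.J4.Inj

/-!
The presented fourth Janko group is simple: a normal subgroup meeting the point stabiliser
`2^11:M24` contains `M24`, and one meeting it trivially has order dividing the index, which the
centraliser of an involution rules out.
-/

set_option autoImplicit false
set_option maxRecDepth 100000
set_option maxHeartbeats 2000000

namespace CfsgLib.Spor.J4Cent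

open CfsgLib.PresCert Cfsg.Spor Equiv CfsgLib.Spor

local notation "J" => Cfsg.Spor.J4

/-! ### certificates -/

/-- words joining every code to the orbit of the involution -/
def sWs : List (List Nat) := [[0], [1], [3], [1, 0, 1], [1, 0, 3]]

/-- a code is joined to the orbit of the involution -/
noncomputable def joinOK (a : Nat) : Bool :=
  Nat.beq a 0 || zmem a || sWs.any fun w => zmem (Nat.xor a (w.foldl (fun a c => cm c a) a))

theorem join0 : (allBelow (nat_lit 1024) fun a => joinOK a) = true := by decide +kernel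
theorem join1 : (allBelow (nat_lit 1024) fun a => joinOK (Nat.add 1024 a)) = true := by decide +kernel

theorem units_zmem : ((List.range 11).all fun j => zmem (2 ^ j)) = true := by decide +kernel

/-- the word of an involution normalising the 2-group -/
def uW : List Nat := [2, 14, 2]

/-- the codes of the conjugates of the generators by it -/
def uMasks : List Nat := [898, 106, 498, 1916, 1230, 1239, 963, 311, 643, 991, 1024]

theorem two_ok : sameM [2, 2] [] = true := by decide +kernel

theorem uNorm_ok : ((List.range 11).all fun j =>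
    sameM (uW ++ [eIds.getD j 0] ++ uW) (eWL eIds (uMasks.getD j 0))) = true := by decide +kernel

theorem u_wit : Nat.beq (app (uW ++ [4]) 1) (app ([4] ++ uW) 1) = false := by decide +kernel

/-- the word of an element of order eleven in the centraliser -/
def wEleven : List Nat := (List.replicate 6 [15, 18, 16, 18, 15, 19]).flatten

theorem k_eleven : sameM (List.replicate 11 wEleven).flatten [] = true := by decide +kernel

theorem k_wit : Nat.beq (app (wEleven ++ [0]) 1) (app ([0] ++ wEleven) 1) = false := by decide +kernel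

theorem four_wit : Nat.beq (cm 0 1) 1 = false ∨ Nat.beq (cm 1 1) 1 = false := by decide +kernel

/-! ### the subgroup of the point stabiliser -/

/-- the elementary abelian 2-group -/
noncomputable def Qe : Subgroup J where
  carrier := {g | ∃ a < 2 ^ 11, g = e a}
  one_mem' := ⟨0, by norm_num, e_zero.symm⟩
  mul_mem' := by
    rintro _ _ ⟨a, ha, rfl⟩ ⟨b, hb, rfl⟩
    exact ⟨a ^^^ b, Nat.xor_lt_two_pow ha hb, (e_xor a b).symm⟩
  inv_mem' := by
    rintro _ ⟨a, ha, rfl⟩
    exact ⟨a, ha, e_inv a⟩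

theorem ne_of_app {u w : List Nat} (hu : lt36 u = true) (hw : lt36 w = true) {v : Nat}
    (hv : v < 2 ^ 112) (h : Nat.beq (app u v) (app w v) = false) : El u ≠ El w := fun e => by
  have h1 := π_El hu ⟨v, hv⟩
  rw [e, π_El hw ⟨v, hv⟩] at h1
  rw [h1, Nat.beq_refl] at h
  exact absurd h (by decide)

theorem El_two_sq : El [2] * El [2] = 1 := by
  rw [← El_append, ← El_nil]
  exact El_eq_of_sameM (by rw [List.singleton_append, two_ok]; decide)

theorem natCard_J : Nat.card J = 86775571046077562880 := by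
  have := CfsgLib.Spor.J4.finite
  exact (J4Lower.natCard_and_injective CfsgLib.Spor.J4.natCard_le).1

theorem natCard_Cz [Finite J] : Nat.card Cz = 21799895040 := by
  obtain ⟨Q, N, M', -, -, -, hNM, -, -, hN, hM, hn, hS⟩ := structure_z facts
  have h1 := Subgroup.card_mul_index M'
  have h2 := Subgroup.card_mul_index (N.subgroupOf M')
  rw [Nat.card_congr (Subgroup.subgroupOfEquivOfLe hNM).toEquiv, hN, Subgroup.index, hS.2] at h2
  rw [hM, ← h2] at h1
  omega

theorem e_unit_mem {N : Subgroup J} (h : ∀ j < 11, e (2 ^ j) ∈ N) {a : Nat} (ha : a < 2 ^ 11) :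
    e a ∈ N := by
  suffices key : ∀ n ≤ 11, ∀ a, a < 2 ^ n → e a ∈ N from key 11 le_rfl a ha
  intro n
  induction n with
  | zero =>
    intro _ a ha
    obtain rfl : a = 0 := by simpa using ha
    rw [e_zero]; exact one_mem N
  | succ n ih =>
    intro hn a ha
    by_cases hb : a.testBit n
    · have hx : a ^^^ 2 ^ n < 2 ^ n := by
        refine Nat.lt_pow_two_of_testBit _ fun i hi => ?_
        rw [Nat.testBit_xor]
        rcases hi.lt_or_eq with hlt | rfl
        · rw [Nat.testBit_lt_two_pow (lt_of_lt_of_le ha (Nat.pow_le_pow_right (by norm_num) hlt)),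
            Nat.testBit_two_pow_of_ne hlt.ne]
          rfl
        · simp [hb, Nat.testBit_two_pow_self]
      rw [show a = (a ^^^ 2 ^ n) ^^^ 2 ^ n by
        rw [Nat.xor_assoc, Nat.xor_self, Nat.xor_zero], e_xor]
      exact mul_mem (ih (by omega) _ hx) (h n (by omega))
    · refine ih (by omega) a (Nat.lt_pow_two_of_testBit _ fun i hi => ?_)
      rcases hi.lt_or_eq with hlt | rfl
      · exact Nat.testBit_lt_two_pow (lt_of_lt_of_le ha (Nat.pow_le_pow_right (by norm_num) hlt))
      · simpa using hb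

theorem Qe_le {N : Subgroup J} [N.Normal] {a : Nat} (ha : a < 2 ^ 11) (h0 : a ≠ 0) (h : e a ∈ N) :
    Qe ≤ N := by
  obtain ⟨b, hb, hbN⟩ : ∃ b, zmem b = true ∧ e b ∈ N := by
    have hj : joinOK a = true := by
      rcases lt_or_ge a 1024 with h1 | h1
      · exact allBelow_spec join0 a h1
      · have := allBelow_spec join1 (a - 1024) (show a - 1024 < 1024 by omega)
        rwa [show Nat.add 1024 (a - 1024) = a from Nat.add_sub_cancel' h1] at this
    simp only [joinOK, Bool.or_eq_true, Nat.beq_eq, List.any_eq_true] at hj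
    rcases hj with (hj | hj) | ⟨w, hw, hj⟩
    · exact absurd hj h0
    · exact ⟨a, hj, h⟩
    · have hlt : lt013 w = true := by
        have : sWs.all lt013 = true := by decide
        exact List.all_eq_true.1 this w hw
      refine ⟨_, hj, ?_⟩
      show e (a ^^^ _) ∈ N
      rw [e_xor, ← surv_word hlt ha]
      exact mul_mem h (Subgroup.Normal.conj_mem inferInstance _ h _)
  have hz : z ∈ N := by
    obtain ⟨w, -, ew⟩ := z_conj_word hb
    have h2 := Subgroup.Normal.conj_mem ‹N.Normal› _ hbN (El w)⁻¹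
    rwa [← ew, show (El w)⁻¹ * (El w * z * (El w)⁻¹) * (El w)⁻¹⁻¹ = z by group] at h2
  rintro _ ⟨c, hc, rfl⟩
  refine e_unit_mem (fun j hj => ?_) hc
  obtain ⟨w, -, ew⟩ := z_conj_word (List.all_eq_true.1 units_zmem j (List.mem_range.2 hj))
  rw [← ew]
  exact Subgroup.Normal.conj_mem ‹N.Normal› _ hz _

theorem range_mem (m : M) : ψ m ∈ Subgroup.closure {J4.Index.gx, J4.Index.gy} := by
  have hle : (⊤ : Subgroup M) ≤ (Subgroup.closure {J4.Index.gx, J4.Index.gy}).comap ψ := by
    rw [← PresentedGroup.closure_range_of rels7, Subgroup.closure_le]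
    rintro _ ⟨b, rfl⟩
    rw [SetLike.mem_coe, Subgroup.mem_comap]
    cases b
    · exact Subgroup.subset_closure (Or.inl (PresentedGroup.toGroup.of mGen_rels))
    · exact Subgroup.subset_closure (Or.inr (PresentedGroup.toGroup.of mGen_rels))
  exact hle (Subgroup.mem_top m)

theorem gx_gy_mem {N : Subgroup J} (h : N.comap J4.Index.psi = ⊤) :
    gen J4.Gen.x ∈ N ∧ gen J4.Gen.y ∈ N := by
  have hle : Subgroup.closure {J4.Index.gx, J4.Index.gy} ≤ N := by
    rw [← J4.M24Iso.range_toHom J4.Index.m24Rels]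
    rintro _ ⟨k, rfl⟩
    exact (Subgroup.eq_top_iff' _).1 h k
  exact ⟨hle (Subgroup.subset_closure (Or.inl rfl)), hle (Subgroup.subset_closure (Or.inr rfl))⟩

theorem eq_top_of_comap {N : Subgroup J} [N.Normal] (h : N.comap J4.Index.psi = ⊤) : N = ⊤ := by
  obtain ⟨hx, hy⟩ := gx_gy_mem h
  let f : J →* J ⧸ N := QuotientGroup.mk' N
  have fx : f (gen .x) = 1 := (QuotientGroup.eq_one_iff _).2 hx
  have fy : f (gen .y) = 1 := (QuotientGroup.eq_one_iff _).2 hy
  have key : ∀ r ∈ J4.extra, FreeGroup.lift (fun g => f (gen g)) r = 1 := by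
    intro r hr
    have e : FreeGroup.lift (fun g => f (gen g)) = f.comp (PresentedGroup.mk rels) :=
      FreeGroup.ext_hom _ _ fun g => by rw [FreeGroup.lift_apply_of]; rfl
    rw [e, MonoidHom.comp_apply, PresentedGroup.one_of_mem (Or.inr hr), map_one]
  simp only [J4.extra, List.forall_mem_cons, J4.x, J4.y, J4.t, map_mul, map_pow, map_inv,
    FreeGroup.lift_apply_of, fx, fy, inv_one, one_mul, mul_one, one_pow] at key
  have ft : f (gen .t) = 1 := by
    obtain ⟨-, -, -, -, -, -, -, h2, -, -, h3, -⟩ := key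
    simpa [pow_succ, h2] using h3
  rw [eq_top_iff, ← PresentedGroup.closure_range_of rels, Subgroup.closure_le]
  rintro _ ⟨g, rfl⟩
  cases g
  · exact hx
  · exact hy
  · exact (QuotientGroup.eq_one_iff _).1 ft

/-- an injective map into the quotient gives a divisor -/
theorem dvd_of_disjoint [Finite J] (N S : Subgroup J) [N.Normal] (h : ∀ g ∈ S, g ∈ N → g = 1) :
    Nat.card N * Nat.card S ∣ Nat.card J := by
  rw [← Subgroup.card_mul_index N]
  refine mul_dvd_mul_left _ ?_
  have hinj : Function.Injective ((QuotientGroup.mk' N).comp S.subtype) :=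
    (injective_iff_map_eq_one _).2 fun g hg =>
      Subtype.ext (h g.1 g.2 ((QuotientGroup.eq_one_iff _).1 hg))
  exact (Subgroup.card_dvd_of_injective _ hinj).trans (dvd_of_eq rfl)

/-- a normal subgroup containing the 2-group is everything -/
theorem eq_top_of_Qe [Finite J] {N : Subgroup J} [N.Normal] (hQ : Qe ≤ N) : N = ⊤ := by
  have := isSimpleGroup_M24
  rcases (inferInstance : (N.comap J4.Index.psi).Normal).eq_bot_or_eq_top with h | h
  swap
  · exact eq_top_of_comap h
  exfalso
  have hu : El uW ∈ N := by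
    rw [show uW = [2] ++ [14] ++ [2] from rfl, El_append, El_append]
    have h14 : El [14] ∈ N := hQ ⟨2 ^ 10, by norm_num, by rw [e, eW_unit (by norm_num)]; rfl⟩
    have := Subgroup.Normal.conj_mem ‹N.Normal› _ h14 (El [2])
    rwa [show (El [2])⁻¹ = El [2] from inv_eq_of_mul_eq_one_right El_two_sq, mul_assoc] at this
  have huu : El uW * El uW = 1 := by
    have h14 : El [14] = e (2 ^ 10) := by rw [e, eW_unit (by norm_num)]; rfl
    rw [show uW = [2] ++ [14] ++ [2] from rfl, El_append, El_append, h14]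
    calc El [2] * (e (2 ^ 10) * El [2]) * (El [2] * (e (2 ^ 10) * El [2]))
        = El [2] * (e (2 ^ 10) * (El [2] * El [2]) * e (2 ^ 10)) * El [2] := by group
      _ = 1 := by rw [El_two_sq, mul_one, e_sq, mul_one, El_two_sq]
  have hnu : ∀ a < 2 ^ 11, ∃ b < 2 ^ 11, El uW * e a * El uW = e b := by
    let S : Subgroup J :=
      { carrier := {g | El uW * g * El uW ∈ Qe}
        one_mem' := by simp [huu]
        mul_mem' := fun {g h} hg hh => by
          have := Qe.mul_mem (show El uW * g * El uW ∈ Qe from hg) (show El uW * h * El uW ∈ Qe from hh)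
          rwa [show El uW * g * El uW * (El uW * h * El uW) = El uW * g * (El uW * El uW) * h * El uW
            by group, huu, mul_one, show El uW * g * h * El uW = El uW * (g * h) * El uW by group] at this
        inv_mem' := fun {g} hg => by
          have := Qe.inv_mem (show El uW * g * El uW ∈ Qe from hg)
          rwa [mul_inv_rev, mul_inv_rev, inv_eq_of_mul_eq_one_right huu, ← mul_assoc] at this }
    have hS : ∀ a < 2 ^ 11, e a ∈ S := fun a ha => e_unit_mem (N := S) (fun j hj => by
      have h1 := List.all_eq_true.1 uNorm_ok j (List.mem_range.2 hj)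
      refine ⟨uMasks.getD j 0, ?_, ?_⟩
      · revert j hj; decide
      · have h2 : El (uW ++ [eIds.getD j 0] ++ uW) = e (uMasks.getD j 0) := by
          refine El_eq_of_sameM ?_
          rw [h1, lt36_eW]
          interval_cases j <;> rfl
        rw [El_append, El_append] at h2
        rw [e, eW_unit hj]
        rw [← h2, mul_assoc]) ha
    exact fun a ha => hS a ha
  have hne : El uW ∉ Qe := by
    rintro ⟨a, ha, he⟩
    refine ne_of_app (u := uW ++ [4]) (w := [4] ++ uW) rfl rfl (by norm_num) u_wit ?_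
    rw [El_append, El_append, he, show El [4] = e 1 from El_four, (e_comm 1 a).eq]
  let T : Subgroup J :=
    { carrier := {g | ∃ a < 2 ^ 11, g = e a ∨ g = e a * El uW}
      one_mem' := ⟨0, by norm_num, Or.inl e_zero.symm⟩
      mul_mem' := by
        rintro g h ⟨a, ha, hg⟩ ⟨b, hb, hh⟩
        obtain ⟨c, hc, ec⟩ := hnu b hb
        rcases hg with rfl | rfl <;> rcases hh with rfl | rfl
        · exact ⟨_, Nat.xor_lt_two_pow ha hb, Or.inl (e_xor a b).symm⟩
        · exact ⟨_, Nat.xor_lt_two_pow ha hb, Or.inr (by rw [e_xor, mul_assoc])⟩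
        · refine ⟨_, Nat.xor_lt_two_pow ha hc, Or.inr ?_⟩
          rw [e_xor, ← ec]
          calc e a * El uW * e b = e a * (El uW * e b * (El uW * El uW)) := by rw [huu]; group
            _ = e a * (El uW * e b * El uW) * El uW := by group
        · refine ⟨_, Nat.xor_lt_two_pow ha hc, Or.inl ?_⟩
          rw [e_xor, ← ec]
          group
      inv_mem' := by
        rintro g ⟨a, ha, rfl | rfl⟩
        · exact ⟨a, ha, Or.inl (e_inv a)⟩
        · obtain ⟨c, hc, ec⟩ := hnu a ha
          refine ⟨c, hc, Or.inr ?_⟩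
          rw [mul_inv_rev, e_inv, inv_eq_of_mul_eq_one_right huu, ← ec]
          calc El uW * e a = El uW * e a * (El uW * El uW) := by rw [huu, mul_one]
            _ = El uW * e a * El uW * El uW := by group }
  have hTN : T ≤ N := by
    rintro g ⟨a, ha, rfl | rfl⟩
    · exact hQ ⟨a, ha, rfl⟩
    · exact mul_mem (hQ ⟨a, ha, rfl⟩) hu
  have hT : 4096 ≤ Nat.card T := by
    let f : Fin (2 ^ 11) × Bool → T := fun x =>
      ⟨e x.1 * (if x.2 then El uW else 1), x.1, x.1.2, by cases x.2 <;> simp⟩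
    have hf : Function.Injective f := by
      rintro ⟨a, s⟩ ⟨b, t⟩ hab
      have h' : e a * (if s then El uW else 1) = e b * (if t then El uW else 1) :=
        congrArg Subtype.val hab
      cases s <;> cases t <;> simp only [Bool.false_eq_true, if_false, if_true, mul_one] at h'
      · exact Prod.ext (Fin.ext (e_inj a.2 b.2 h')) rfl
      · exact (hne ⟨_, Nat.xor_lt_two_pow b.2 a.2,
          by rw [e_xor, h', ← mul_assoc, e_sq, one_mul]⟩).elim
      · exact (hne ⟨_, Nat.xor_lt_two_pow a.2 b.2,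
          by rw [e_xor, ← h', ← mul_assoc, e_sq, one_mul]⟩).elim
      · exact Prod.ext (Fin.ext (e_inj a.2 b.2 (mul_right_cancel h'))) rfl
    have := Nat.card_le_card_of_injective f hf
    simpa [Nat.card_eq_fintype_card] using this
  have hT' : 4096 ∣ Nat.card T := by
    have hp : IsPGroup 2 T := fun g => by
      refine ⟨2, ?_⟩
      obtain ⟨g, a, ha, rfl | rfl⟩ := g
      · exact Subtype.ext (by simp [pow_succ, e_sq])
      · obtain ⟨c, hc, ec⟩ := hnu a ha
        refine Subtype.ext ?_
        have h2 : e a * El uW * (e a * El uW) = e (a ^^^ c) := by rw [e_xor, ← ec]; group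
        show (e a * El uW) ^ (2 ^ 2) = 1
        rw [show (2 : ℕ) ^ 2 = 2 * 2 from rfl, pow_mul, pow_two (e a * El uW), h2, pow_two, e_sq]
    obtain ⟨n, hn⟩ := hp.exists_card_eq
    rw [hn] at hT ⊢
    refine (pow_dvd_pow 2 ?_ : 2 ^ 12 ∣ 2 ^ n)
    by_contra hlt
    have := Nat.pow_le_pow_right (show 0 < 2 by norm_num) (show n ≤ 11 by omega)
    omega
  have hd := dvd_of_disjoint N J4.Index.psi.range (by
    rintro _ ⟨k, rfl⟩ hk
    rw [(Subgroup.eq_bot_iff_forall _).1 h k hk, map_one])
  rw [Nat.card_congr (MonoidHom.ofInjective J4.psi_injective).toEquiv.symm, natCard_M24, natCard_J,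
    show 86775571046077562880 = 354442012672 * 244823040 by norm_num] at hd
  have hN : 4096 ∣ 354442012672 :=
    (hT'.trans (Subgroup.card_dvd_of_le hTN)).trans (Nat.dvd_of_mul_dvd_mul_right (by norm_num) hd)
  norm_num at hN

/-- the centraliser of the 2-group in the Mathieu group is trivial -/
theorem psi_cent {k : Cfsg.M24} (h : ∀ a < 2 ^ 11, J4.Index.psi k * e a = e a * J4.Index.psi k) :
    k = 1 := by
  have := isSimpleGroup_M24
  let K : Subgroup Cfsg.M24 := (Subgroup.centralizer (Qe : Set J)).comap J4.Index.psi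
  have hK : K.Normal := ⟨fun n hn g => by
    show J4.Index.psi (g * n * g⁻¹) ∈ Subgroup.centralizer (Qe : Set J)
    rw [Subgroup.mem_centralizer_iff]
    rintro _ ⟨a, ha, rfl⟩
    obtain ⟨m, hm⟩ := psi_mem_range g⁻¹
    obtain ⟨b, hb, eb⟩ := conj_all m ha
    rw [← hm, map_inv, inv_inv] at eb
    have hc := Subgroup.mem_centralizer_iff.1 (show J4.Index.psi n ∈ _ from hn) (e b) ⟨b, hb, rfl⟩
    have ea : e a = J4.Index.psi g * e b * (J4.Index.psi g)⁻¹ := by rw [← eb]; group
    rw [map_mul, map_mul, map_inv, ea]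
    calc J4.Index.psi g * e b * (J4.Index.psi g)⁻¹ *
          (J4.Index.psi g * J4.Index.psi n * (J4.Index.psi g)⁻¹)
        = J4.Index.psi g * (e b * J4.Index.psi n) * (J4.Index.psi g)⁻¹ := by group
      _ = _ := by rw [hc]; group⟩
  rcases hK.eq_bot_or_eq_top with hb | ht
  · exact (Subgroup.eq_bot_iff_forall _).1 hb k (Subgroup.mem_centralizer_iff.2 (by
      rintro _ ⟨a, ha, rfl⟩; exact (h a ha).symm))
  · exfalso
    have hgen : ∀ c ∈ [0, 1, 3], El [c] ∈ Subgroup.closure {J4.Index.gx, J4.Index.gy} := by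
      intro c hc
      have h0 := El_mem_range (w := [c]) (by rw [lt013_iff]; simpa using hc)
      obtain ⟨m, hm⟩ := h0
      rw [← hm]
      refine range_mem m
    have hall : ∀ c ∈ [0, 1, 3], El [c] * e 1 * (El [c])⁻¹ = e 1 := fun c hc => by
      have h1 := hgen c hc
      rw [← J4.M24Iso.range_toHom J4.Index.m24Rels] at h1
      obtain ⟨k', hk'⟩ := h1
      have h2 := Subgroup.mem_centralizer_iff.1 ((Subgroup.eq_top_iff' _).1 ht k') (e 1)
        ⟨1, by norm_num, rfl⟩
      have h3 : J4.Index.psi k' = El [c] := hk'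
      rw [← h3, ← h2, mul_inv_cancel_right]
    rcases four_wit with hw | hw
    · have := hall 0 (by simp)
      rw [e_conj (by simp) (by norm_num)] at this
      rw [e_inj cm_lt (by norm_num) this, Nat.beq_refl] at hw
      exact absurd hw (by decide)
    · have := hall 1 (by simp)
      rw [e_conj (by simp) (by norm_num)] at this
      rw [e_inj cm_lt (by norm_num) this, Nat.beq_refl] at hw
      exact absurd hw (by decide)

/-- a normal subgroup missing the 2-group misses the point stabiliser -/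
theorem dvd_index [Finite J] {N : Subgroup J} [N.Normal] (hQ : ∀ a < 2 ^ 11, e a ∈ N → a = 0) :
    Nat.card N ∣ 173067389 := by
  let S : Subgroup J := Pst
  have hform : ∀ g ∈ S, ∃ (k : Cfsg.M24) (a : Fin (2 ^ 11)), g = J4.Index.psi k * e a := by
    rintro _ ⟨m, a, ha, rfl⟩
    have hm := range_mem m
    rw [← J4.M24Iso.range_toHom J4.Index.m24Rels] at hm
    obtain ⟨k, hk⟩ := hm
    exact ⟨k, ⟨a, ha⟩, by rw [show J4.Index.psi k = ψ m from hk]⟩
  let f : Cfsg.M24 × Fin (2 ^ 11) → S := fun x => ⟨J4.Index.psi x.1 * e x.2, by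
    obtain ⟨m, hm⟩ := psi_mem_range x.1
    exact ⟨m, x.2, x.2.2, by rw [hm]⟩⟩
  have hf : Function.Bijective f := by
    refine ⟨fun x y h => ?_, fun g => ?_⟩
    · have h' : J4.Index.psi x.1 * e x.2 = J4.Index.psi y.1 * e y.2 := congrArg Subtype.val h
      have h1 : J4.Index.psi (y.1⁻¹ * x.1) = e y.2 * e x.2 := by
        rw [map_mul, map_inv, eq_comm, eq_inv_mul_iff_mul_eq, ← mul_assoc, ← h', mul_assoc, e_sq,
          mul_one]
      have h2 := psi_cent (k := y.1⁻¹ * x.1) (fun a _ => by
        rw [h1, ← e_xor]; exact (e_comm _ _).eq)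
      rw [inv_mul_eq_one] at h2
      rw [h2, mul_right_inj] at h'
      exact Prod.ext h2.symm (Fin.ext (e_inj x.2.2 y.2.2 h'))
    · obtain ⟨k, a, e'⟩ := hform g.1 g.2
      exact ⟨(k, a), Subtype.ext e'.symm⟩
  have hdis : ∀ g ∈ S, g ∈ N → g = 1 := by
    intro g hg hgN
    obtain ⟨k, a, rfl⟩ := hform g hg
    have hcomm : ∀ b < 2 ^ 11, J4.Index.psi k * e b = e b * J4.Index.psi k := by
      intro b hb
      obtain ⟨m, hm⟩ := psi_mem_range k
      obtain ⟨c, hc, ec⟩ := conj_all m hb
      rw [← hm] at ec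
      have h1 : e (c ^^^ b) ∈ N := by
        have h2 : J4.Index.psi k * e a * (e b * (J4.Index.psi k * e a)⁻¹ * (e b)⁻¹) ∈ N :=
          mul_mem hgN (Subgroup.Normal.conj_mem ‹N.Normal› _ (inv_mem hgN) _)
        have h3 : J4.Index.psi k * e a * (e b * (J4.Index.psi k * e a)⁻¹ * (e b)⁻¹) =
            e (c ^^^ b) := by
          rw [e_xor, ← ec, mul_inv_rev, e_inv, e_inv]
          calc J4.Index.psi k * e a * (e b * (e a * (J4.Index.psi k)⁻¹) * e b)
              = J4.Index.psi k * (e a * e b * e a) * (J4.Index.psi k)⁻¹ * e b := by group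
            _ = _ := by rw [(e_comm a b).eq, mul_assoc (e b), e_sq, mul_one]
        rwa [h3] at h2
      rw [Nat.xor_eq_zero_iff.1 (hQ _ (Nat.xor_lt_two_pow hc hb) h1)] at ec
      exact mul_inv_eq_iff_eq_mul.1 ec
    have hk := psi_cent hcomm
    subst hk
    rw [map_one, one_mul] at hgN ⊢
    rw [hQ _ a.2 hgN, e_zero]
  have hd := dvd_of_disjoint N S hdis
  rw [← Nat.card_congr (Equiv.ofBijective f hf), Nat.card_prod, natCard_M24, natCard_J,
    Nat.card_fin,
    show 86775571046077562880 = 173067389 * (244823040 * 2 ^ 11) by norm_num] at hd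
  exact Nat.dvd_of_mul_dvd_mul_right (by norm_num) hd

/-! ### a normal subgroup of order dividing the index -/

/-- a conjugate of the involution centralises at most eleven elements of such a subgroup -/
theorem cent_dvd [Finite J] {N : Subgroup J} (hN : Nat.card N ∣ 173067389) {a : Nat}
    (ha : zmem a = true) :
    Nat.card ↥(N ⊓ Subgroup.centralizer ({e a} : Set J)) ∣ 11 := by
  obtain ⟨w, -, ew⟩ := z_conj_word ha
  have h1 : Subgroup.centralizer ({e a} : Set J) = Cz.map (MulAut.conj (El w)).toMonoidHom := by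
    ext g
    rw [Subgroup.mem_centralizer_singleton_iff, Subgroup.mem_map_equiv, MulAut.conj_symm_apply,
      Subgroup.mem_centralizer_singleton_iff, ← ew]
    constructor <;> intro h
    · calc (El w)⁻¹ * g * El w * z = (El w)⁻¹ * (g * (El w * z * (El w)⁻¹)) * El w := by group
        _ = _ := by rw [h]; group
    · calc g * (El w * z * (El w)⁻¹) = El w * ((El w)⁻¹ * g * El w * z) * (El w)⁻¹ := by group
        _ = _ := by rw [h]; group
  have h2 : Nat.card ↥(N ⊓ Subgroup.centralizer ({e a} : Set J)) ∣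
      Nat.gcd 173067389 21799895040 := by
    refine Nat.dvd_gcd ((Subgroup.card_dvd_of_le inf_le_left).trans hN) ?_
    refine (Subgroup.card_dvd_of_le inf_le_right).trans (dvd_of_eq ?_)
    rw [h1, ← natCard_Cz]
    exact (Nat.card_congr (Cz.equivMapOfInjective _ (MulEquiv.injective _)).toEquiv).symm
  exact h2.trans (dvd_of_eq (by norm_num))

/-- three commuting involutions cannot all invert an element of odd order -/
theorem cent_one_of_three {G : Type*} [Group G] {a b c n : G} (hc : a * b = c)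
    (ha : a * n * a⁻¹ = n⁻¹) (hb : b * n * b⁻¹ = n⁻¹) : c * n * c⁻¹ = n := by
  rw [← hc, mul_inv_rev]
  calc a * b * n * (b⁻¹ * a⁻¹) = a * (b * n * b⁻¹) * a⁻¹ := by group
    _ = (a * n * a⁻¹)⁻¹ := by rw [hb]; group
    _ = n := by rw [ha, inv_inv]

theorem three_ok : zmem 1 = true ∧ zmem 2 = true ∧ zmem 3 = true := by decide +kernel

theorem e_three : e 1 * e 2 = e 3 := by rw [← e_xor]; rfl

/-- the Sylow subgroups of prime order are absent -/
theorem not_dvd [Finite J] {N : Subgroup J} [N.Normal] (hN : Nat.card N ∣ 173067389) {p : ℕ}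
    (hp : p.Prime) (hp11 : p ≠ 11) (hp2 : ¬ p ^ 2 ∣ Nat.card J) : ¬ p ∣ Nat.card N := by
  intro hdvd
  have : Fact p.Prime := ⟨hp⟩
  let P0 : Sylow p J := default
  have hc : ∀ P : Sylow p J, Nat.card (P : Subgroup J) = p := fun P => by
    obtain ⟨k, hk⟩ := P.2.exists_card_eq
    have h1 : p ∣ Nat.card (P : Subgroup J) :=
      P.dvd_card_of_dvd_card (hdvd.trans (Subgroup.card_subgroup_dvd_card N))
    have h2 : Nat.card (P : Subgroup J) ∣ Nat.card J := Subgroup.card_subgroup_dvd_card _
    rw [hk] at h1 h2 ⊢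
    rcases k with _ | _ | k
    · simp only [pow_zero, Nat.dvd_one] at h1; exact absurd h1 hp.ne_one
    · simp
    · exact absurd ((pow_dvd_pow p (by omega)).trans h2) hp2
  have hPN : ∀ P : Sylow p J, (P : Subgroup J) ≤ N := fun P g hg => by
    have h1 : orderOf (QuotientGroup.mk' N g) ∣ p :=
      (orderOf_map_dvd _ g).trans ((Subgroup.orderOf_dvd_natCard _ hg).trans (hc P).dvd)
    have h2 : orderOf (QuotientGroup.mk' N g) ∣ Nat.card (J ⧸ N) := orderOf_dvd_natCard _
    rcases hp.eq_one_or_self_of_dvd _ h1 with h | h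
    · exact (QuotientGroup.eq_one_iff g).1 (orderOf_eq_one_iff.1 h)
    · rw [h] at h2
      refine absurd ?_ hp2
      rw [← Subgroup.card_mul_index N, pow_two]
      exact mul_dvd_mul hdvd h2
  have hodd : ¬ 2 ∣ Nat.card (Sylow p J) := by
    rw [Sylow.card_eq_index_normalizer P0]
    set Nm := Subgroup.normalizer ((P0 : Subgroup J) : Set J)
    have hsup : Nm ⊔ N = ⊤ := Sylow.normalizer_sup_eq_top' P0 (hPN P0)
    have hsur : Function.Surjective ((QuotientGroup.mk' N).comp Nm.subtype) := by
      rw [← MonoidHom.range_eq_top, MonoidHom.range_comp, Subgroup.range_subtype, eq_top_iff,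
        ← Subgroup.map_top_of_surjective (QuotientGroup.mk' N) (QuotientGroup.mk'_surjective N),
        ← hsup, Subgroup.map_sup, QuotientGroup.map_mk'_self, sup_bot_eq]
    obtain ⟨k, hk⟩ : Nat.card (J ⧸ N) ∣ Nat.card Nm := Subgroup.card_dvd_of_surjective _ hsur
    have e1 := Nm.card_mul_index
    rw [hk, ← Subgroup.card_mul_index N, mul_comm (Nat.card N), mul_assoc] at e1
    have e2 : k * Nm.index = Nat.card N := Nat.eq_of_mul_eq_mul_left Nat.card_pos e1
    intro h2
    have h3 : 2 ∣ 173067389 := h2.trans ((Dvd.intro_left k e2).trans hN)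
    norm_num at h3
  let S : Subgroup J :=
    { carrier := {g | g = 1 ∨ g = e 1 ∨ g = e 2 ∨ g = e 3}
      one_mem' := Or.inl rfl
      mul_mem' := by
        rintro g h hg hh
        rcases hg with rfl | rfl | rfl | rfl <;> rcases hh with rfl | rfl | rfl | rfl <;>
          simp [← e_xor, e_zero]
      inv_mem' := by
        rintro g hg
        rcases hg with rfl | rfl | rfl | rfl <;> simp [e_inv] }
  have hS : IsPGroup 2 S := fun g => ⟨1, Subtype.ext (by
    obtain ⟨g, hg⟩ := g
    rcases hg with rfl | rfl | rfl | rfl <;> simp [pow_two, e_sq])⟩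
  obtain ⟨P, hP⟩ := hS.nonempty_fixed_point_of_prime_not_dvd_card (Sylow p J) hodd
  have hfix : ∀ a, a = 1 ∨ a = 2 ∨ a = 3 → ∀ n ∈ (P : Subgroup J), e a * n * (e a)⁻¹ ∈ (P : Subgroup J) := by
    intro a ha n hn
    have hmem : e a ∈ S := by
      rcases ha with rfl | rfl | rfl
      exacts [Or.inr (Or.inl rfl), Or.inr (Or.inr (Or.inl rfl)), Or.inr (Or.inr (Or.inr rfl))]
    have h1 : e a ∈ Subgroup.normalizer ((P : Subgroup J) : Set J) :=
      Sylow.smul_eq_iff_mem_normalizer.1 (hP ⟨e a, hmem⟩)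
    exact (Subgroup.mem_normalizer_iff.1 h1 n).1 hn
  have hne : (P : Subgroup J) ≠ ⊥ := fun h => by
    have := hc P
    rw [h, Subgroup.card_bot] at this
    exact hp.ne_one this.symm
  obtain ⟨⟨n, hn⟩, hn'⟩ := ((P : Subgroup J).ne_bot_iff_exists_ne_one).1 hne
  have hn1 : n ≠ 1 := fun h => hn' (Subtype.ext h)
  have hcomm : ∀ x ∈ (P : Subgroup J), ∀ y ∈ (P : Subgroup J), x * y = y * x := fun x hx y hy => by
    have := isCyclic_of_prime_card (hc P)
    exact congrArg Subtype.val (IsMulCommutative.is_comm.comm (⟨x, hx⟩ : (P : Subgroup J)) ⟨y, hy⟩)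
  have hcase : ∀ a, a = 1 ∨ a = 2 ∨ a = 3 → e a * n * (e a)⁻¹ = n⁻¹ := by
    intro a ha
    have hza : zmem a = true := by
      rcases ha with rfl | rfl | rfl
      exacts [three_ok.1, three_ok.2.1, three_ok.2.2]
    by_contra hcon
    set m := e a * n * (e a)⁻¹ with hm
    have hmP : m ∈ (P : Subgroup J) := hfix a ha n hn
    have hx1 : n * m ≠ 1 := fun h => hcon (eq_inv_of_mul_eq_one_right h)
    have hxP : n * m ∈ (P : Subgroup J) := mul_mem hn hmP
    have hxc : n * m ∈ Subgroup.centralizer ({e a} : Set J) := by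
      rw [Subgroup.mem_centralizer_singleton_iff]
      have h1 : e a * (n * m) * (e a)⁻¹ = n * m := by
        have h2 : e a * m * (e a)⁻¹ = n := by
          rw [hm, e_inv]
          calc e a * (e a * n * e a) * e a = e a * e a * n * (e a * e a) := by group
            _ = n := by rw [e_sq, one_mul, mul_one]
        calc e a * (n * m) * (e a)⁻¹ = e a * n * (e a)⁻¹ * (e a * m * (e a)⁻¹) := by group
          _ = _ := by rw [h2, ← hm, hcomm m hmP n hn]
      exact (mul_inv_eq_iff_eq_mul.1 h1).symm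
    have h3 : orderOf (n * m) = p := ((Nat.dvd_prime hp).1
      ((Subgroup.orderOf_dvd_natCard _ hxP).trans (hc P).dvd)).resolve_left
        fun h => hx1 (orderOf_eq_one_iff.1 h)
    have h4 : p ∣ 11 := h3 ▸ (Subgroup.orderOf_dvd_natCard _
      (Subgroup.mem_inf.2 ⟨hPN P hxP, hxc⟩)).trans (cent_dvd hN hza)
    exact hp11 ((Nat.prime_dvd_prime_iff_eq hp (by norm_num)).1 h4)
  have h12 := cent_one_of_three e_three (hcase 1 (Or.inl rfl)) (hcase 2 (Or.inr (Or.inl rfl)))
  rw [hcase 3 (Or.inr (Or.inr rfl))] at h12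
  have h2 : orderOf n ∣ 2 := orderOf_dvd_of_pow_eq_one (by
    rw [pow_two]; nth_rw 1 [← h12]; rw [inv_mul_cancel])
  have h5 : orderOf n ∣ 173067389 :=
    ((Subgroup.orderOf_dvd_natCard _ (hPN P hn))).trans hN
  exact hn1 (orderOf_eq_one_iff.1 (Nat.dvd_one.1 (by simpa using Nat.dvd_gcd h2 h5)))

theorem natCard_dvd_121 [Finite J] {N : Subgroup J} [N.Normal] (hN : Nat.card N ∣ 173067389) :
    Nat.card N ∣ 121 := by
  have key : ∀ {m p : ℕ}, p.Prime → ¬ p ∣ Nat.card N → Nat.card N ∣ m * p → Nat.card N ∣ m :=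
    fun hp hnd h => ((hp.coprime_iff_not_dvd.2 hnd).symm).dvd_of_dvd_mul_right h
  have h : ∀ p, p.Prime → p ∈ [29, 31, 37, 43] → ¬ p ∣ Nat.card N := by
    intro p hp hmem
    refine not_dvd hN hp ?_ ?_
    · rintro rfl; simp at hmem
    · rw [natCard_J]
      simp only [List.mem_cons, List.not_mem_nil, or_false] at hmem
      rcases hmem with rfl | rfl | rfl | rfl <;> norm_num
  rw [show 173067389 = 121 * 29 * 31 * 37 * 43 by norm_num] at hN
  exact key (by norm_num) (h 29 (by norm_num) (by simp)) (key (by norm_num) (h 31 (by norm_num) (by simp))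
    (key (by norm_num) (h 37 (by norm_num) (by simp)) (key (by norm_num) (h 43 (by norm_num) (by simp)) hN)))

theorem comm_of_121 [Finite J] {N : Subgroup J} (hN : Nat.card N ∣ 121) :
    ∀ x ∈ N, ∀ y ∈ N, x * y = y * x := by
  intro x hx y hy
  have : Fact (Nat.Prime 11) := ⟨by norm_num⟩
  have h11 : Nat.card N ∣ 11 ^ 2 := hN
  obtain ⟨k, hk, e'⟩ := (Nat.dvd_prime_pow (by norm_num)).1 h11
  suffices h : ∀ a b : N, a * b = b * a from congrArg Subtype.val (h ⟨x, hx⟩ ⟨y, hy⟩)
  intro a b
  interval_cases k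
  · have := (Nat.card_eq_one_iff_unique.1 (e'.trans (pow_zero _))).1
    exact Subsingleton.elim _ _
  · have := isCyclic_of_prime_card (α := N) (p := 11) (by simpa using e')
    exact IsMulCommutative.is_comm.comm a b
  · exact (IsPGroup.isMulCommutative_of_card_eq_prime_sq (p := 11) e').is_comm.comm a b

theorem natCard_dvd_eleven {A : Subgroup J} [Finite J] {N : Subgroup J} (hN : Nat.card N ∣ 121)
    (hA : A < N) : Nat.card A ∣ 11 := by
  have h1 : Nat.card A ∣ 11 ^ 2 := (Subgroup.card_dvd_of_le hA.le).trans hN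
  obtain ⟨k, hk, e'⟩ := (Nat.dvd_prime_pow (by norm_num)).1 h1
  rw [e']
  interval_cases k
  · exact one_dvd _
  · simp
  · exfalso
    refine hA.ne (SetLike.coe_injective (Set.Finite.eq_of_subset_of_card_le (Set.toFinite _) hA.le ?_))
    have : Nat.card N ≤ 11 ^ 2 := Nat.le_of_dvd (by norm_num) hN
    simpa [← Nat.card_coe_set_eq, e'] using this

theorem exists_gen [Finite J] {A : Subgroup J} (hA : Nat.card A ∣ 11) :
    ∃ g ∈ A, ∀ h ∈ A, h ∈ Subgroup.zpowers g := by
  rcases (Nat.dvd_prime (by norm_num : Nat.Prime 11)).1 hA with h | h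
  · refine ⟨1, one_mem A, fun x hx => ?_⟩
    rw [Subgroup.card_eq_one] at h
    subst h
    rw [Subgroup.mem_bot.1 hx]; exact one_mem _
  · have : Fact (Nat.Prime 11) := ⟨by norm_num⟩
    have := isCyclic_of_prime_card h
    obtain ⟨g, hg⟩ := IsCyclic.exists_generator (α := A)
    refine ⟨g, g.2, fun x hx => ?_⟩
    obtain ⟨k, hk⟩ := Subgroup.mem_zpowers_iff.1 (hg ⟨x, hx⟩)
    exact Subgroup.mem_zpowers_iff.2 ⟨k, by simpa using congrArg Subtype.val hk⟩

theorem pow_121 [Finite J] {N : Subgroup J} (hN : Nat.card N ∣ 121) {n : J} (hn : n ∈ N) : n ^ 121 = 1 :=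
  orderOf_dvd_iff_pow_eq_one.1 ((Subgroup.orderOf_dvd_natCard _ hn).trans hN)

theorem sq_eq_one [Finite J] {N : Subgroup J} (hN : Nat.card N ∣ 121) {n : J} (hn : n ∈ N)
    (h : n * n = 1) : n = 1 := by
  have h1 := pow_121 hN hn
  rwa [show 121 = 2 * 60 + 1 from rfl, pow_succ, pow_mul, pow_two, h, one_pow, one_mul] at h1

/-- a small normal subgroup is centralised by an involution of the 2-group -/
theorem cent_meets [Finite J] {N : Subgroup J} [N.Normal] (hN : Nat.card N ∣ 121) :
    ∃ b, b < 2 ^ 11 ∧ b ≠ 0 ∧ ∀ n ∈ N, e b * n = n * e b := by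
  have hN' : Nat.card N ∣ 173067389 := hN.trans (by norm_num)
  have hcomm := comm_of_121 hN
  have hconj : ∀ a n, n ∈ N → e a * n * (e a)⁻¹ ∈ N := fun a n hn =>
    Subgroup.Normal.conj_mem ‹N.Normal› n hn _
  rcases eq_or_ne N ⊥ with rfl | hNne
  · exact ⟨1, by norm_num, by norm_num, fun n hn => by rw [Subgroup.mem_bot.1 hn, one_mul, mul_one]⟩
  have hinvol : ∀ a n, e a * (e a * n * (e a)⁻¹) * (e a)⁻¹ = n := fun a n => by
    rw [e_inv]
    calc e a * (e a * n * e a) * e a = e a * e a * n * (e a * e a) := by group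
      _ = n := by rw [e_sq, one_mul, mul_one]
  obtain ⟨a, ha, hC⟩ : ∃ a, zmem a = true ∧ N ⊓ Subgroup.centralizer ({e a} : Set J) ≠ ⊥ := by
    by_contra hcon
    push Not at hcon
    have hinv : ∀ a, zmem a = true → ∀ n ∈ N, e a * n * (e a)⁻¹ = n⁻¹ := by
      intro a ha n hn
      refine eq_inv_of_mul_eq_one_right ?_
      refine Subgroup.mem_bot.1 (hcon a ha ▸ Subgroup.mem_inf.2 ⟨mul_mem hn (hconj a n hn), ?_⟩)
      rw [Subgroup.mem_centralizer_singleton_iff]
      refine (mul_inv_eq_iff_eq_mul.1 ?_).symm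
      calc e a * (n * (e a * n * (e a)⁻¹)) * (e a)⁻¹
          = e a * n * (e a)⁻¹ * (e a * (e a * n * (e a)⁻¹) * (e a)⁻¹) := by group
        _ = _ := by rw [hinvol, hcomm _ (hconj a n hn) _ hn]
    refine hNne ((Subgroup.eq_bot_iff_forall N).2 fun n hn => sq_eq_one hN hn ?_)
    have h := cent_one_of_three e_three (hinv 1 three_ok.1 n hn) (hinv 2 three_ok.2.1 n hn)
    rw [hinv 3 three_ok.2.2 n hn] at h
    nth_rw 1 [← h]
    exact inv_mul_cancel n
  set C := N ⊓ Subgroup.centralizer ({e a} : Set J) with hCdef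
  have hC11 : Nat.card C ∣ 11 := cent_dvd hN' ha
  let I : Subgroup J :=
    { carrier := {n | n ∈ N ∧ e a * n * (e a)⁻¹ = n⁻¹}
      one_mem' := ⟨one_mem N, by simp⟩
      mul_mem' := fun {x y} hx hy => ⟨mul_mem hx.1 hy.1, by
        rw [mul_inv_rev, hcomm _ (inv_mem hy.1) _ (inv_mem hx.1), ← hx.2, ← hy.2]; group⟩
      inv_mem' := fun {x} hx => ⟨inv_mem hx.1, by
        conv_rhs => rw [← hx.2]
        group⟩ }
  have hI11 : Nat.card I ∣ 11 := by
    refine natCard_dvd_eleven hN (lt_of_le_of_ne (fun x hx => hx.1) fun hIN => ?_)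
    refine hC ((Subgroup.eq_bot_iff_forall C).2 fun n hn => ?_)
    obtain ⟨hn, hnc⟩ := Subgroup.mem_inf.1 hn
    have h1 : n ∈ I := by rw [hIN]; exact hn
    have h2 : e a * n * (e a)⁻¹ = n := by
      rw [← Subgroup.mem_centralizer_singleton_iff.1 hnc, mul_inv_cancel_right]
    refine sq_eq_one hN hn ?_
    have h3 := h1.2
    rw [h2] at h3
    nth_rw 1 [h3]
    exact inv_mul_cancel n
  obtain ⟨c, hc, hcg⟩ := exists_gen hC11
  obtain ⟨d, hd, hdg⟩ := exists_gen hI11
  have hpres : ∀ b x, (x ∈ C → e b * x * (e b)⁻¹ ∈ C) ∧ (x ∈ I → e b * x * (e b)⁻¹ ∈ I) := by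
    intro b x
    have hsw : ∀ y, e a * (e b * y * (e b)⁻¹) * (e a)⁻¹ = e b * (e a * y * (e a)⁻¹) * (e b)⁻¹ := fun y => by
      calc e a * (e b * y * (e b)⁻¹) * (e a)⁻¹ = (e a * e b) * y * (e a * e b)⁻¹ := by group
        _ = _ := by rw [(e_comm a b).eq]; group
    constructor
    · intro hx
      obtain ⟨hx, hxc⟩ := Subgroup.mem_inf.1 hx
      refine Subgroup.mem_inf.2 ⟨hconj b x hx, ?_⟩
      rw [Subgroup.mem_centralizer_singleton_iff] at hxc ⊢
      refine (mul_inv_eq_iff_eq_mul.1 ?_).symm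
      rw [hsw, ← hxc, mul_inv_cancel_right]
    · intro hx
      refine ⟨hconj b x hx.1, ?_⟩
      rw [hsw, hx.2]; group
  let f : Fin (2 ^ 11) → C × I := fun b =>
    (⟨_, (hpres b c).1 hc⟩, ⟨_, (hpres b d).2 hd⟩)
  obtain ⟨b1, b2, hne, heq⟩ : ∃ b1 b2, b1 ≠ b2 ∧ f b1 = f b2 := by
    by_contra hcon
    push Not at hcon
    have hinj : Function.Injective f := fun x y h => by
      by_contra hxy; exact hcon x y hxy h
    have h1 := Nat.card_le_card_of_injective f hinj
    rw [Nat.card_prod, Nat.card_eq_fintype_card, Fintype.card_fin] at h1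
    have hC' := Nat.le_of_dvd (by norm_num) hC11
    have hI' := Nat.le_of_dvd (by norm_num) hI11
    have := Nat.mul_le_mul hC' hI'
    omega
  simp only [f, Prod.mk.injEq, Subtype.mk.injEq] at heq
  refine ⟨b1.1 ^^^ b2.1, Nat.xor_lt_two_pow b1.2 b2.2,
    fun h => hne (Fin.ext (Nat.xor_eq_zero_iff.1 h)), ?_⟩
  set K := Subgroup.centralizer ({e (b1.1 ^^^ b2.1)} : Set J) with hK
  suffices hNK : N ≤ K from fun n hn => (Subgroup.mem_centralizer_singleton_iff.1 (hNK hn)).symm
  have hKof : ∀ x, e b1 * x * (e b1)⁻¹ = e b2 * x * (e b2)⁻¹ → x ∈ K := fun x hx => by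
    rw [hK, Subgroup.mem_centralizer_singleton_iff, Nat.xor_comm, e_xor]
    refine (mul_inv_eq_iff_eq_mul.1 ?_).symm
    rw [mul_inv_rev]
    calc e b2 * e b1 * x * ((e b1)⁻¹ * (e b2)⁻¹) = e b2 * (e b1 * x * (e b1)⁻¹) * (e b2)⁻¹ := by group
      _ = x := by rw [hx, hinvol]
  have hCK : C ≤ K := fun x hx => (Subgroup.zpowers_le.2 (hKof c heq.1)) (hcg x hx)
  have hIK : I ≤ K := fun x hx => (Subgroup.zpowers_le.2 (hKof d heq.2)) (hdg x hx)
  intro n hn
  set m := e a * n * (e a)⁻¹ with hm
  have hmN := hconj a n hn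
  have hem : e a * m * (e a)⁻¹ = n := hinvol a n
  have h1 : n * m ∈ K := hCK (Subgroup.mem_inf.2 ⟨mul_mem hn hmN, by
    rw [Subgroup.mem_centralizer_singleton_iff]
    refine (mul_inv_eq_iff_eq_mul.1 ?_).symm
    calc e a * (n * m) * (e a)⁻¹ = (e a * n * (e a)⁻¹) * (e a * m * (e a)⁻¹) := by group
      _ = _ := by rw [hem, ← hm, hcomm m hmN n hn]⟩)
  have h2 : n * m⁻¹ ∈ K := hIK ⟨mul_mem hn (inv_mem hmN), by
    calc e a * (n * m⁻¹) * (e a)⁻¹ = (e a * n * (e a)⁻¹) * (e a * m * (e a)⁻¹)⁻¹ := by group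
      _ = _ := by rw [hem, ← hm, mul_inv_rev, inv_inv]⟩
  have h3 := mul_mem h1 h2
  rw [show n * m * (n * m⁻¹) = n ^ 2 by
    rw [pow_two, mul_assoc n m, ← mul_assoc m n, hcomm m hmN n hn, mul_assoc n m, mul_inv_cancel,
      mul_one]] at h3
  have h4 := pow_mem h3 61
  rwa [← pow_mul, show 2 * 61 = 121 + 1 from rfl, pow_succ, pow_121 hN hn, one_mul] at h4

/-- the presented group is simple -/
theorem isSimpleGroup : IsSimpleGroup J := by
  have := CfsgLib.Spor.J4.finite
  have : Nontrivial J := Finite.one_lt_card_iff_nontrivial.1 (by rw [natCard_J]; norm_num)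
  refine ⟨fun N hN => ?_⟩
  by_cases hQ : ∀ a < 2 ^ 11, e a ∈ N → a = 0
  swap
  · push Not at hQ
    obtain ⟨a, ha, hmem, h0⟩ := hQ
    exact Or.inr (eq_top_of_Qe (Qe_le ha h0 hmem))
  left
  have h121 := natCard_dvd_121 (dvd_index hQ)
  obtain ⟨b, hb, hb0, hbc⟩ := cent_meets h121
  have hbK : e b ∈ Subgroup.centralizer (N : Set J) :=
    Subgroup.mem_centralizer_iff.2 fun n hn => (hbc n hn).symm
  have htop := eq_top_of_Qe (N := Subgroup.centralizer (N : Set J)) (Qe_le hb hb0 hbK)
  have hcen : ∀ n ∈ N, ∀ g : J, n * g = g * n := fun n hn g =>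
    Subgroup.mem_centralizer_iff.1 ((Subgroup.eq_top_iff' _).1 htop g) n hn
  have hNC : N ≤ Cz := fun n hn => Subgroup.mem_centralizer_singleton_iff.2 (hcen n hn z)
  by_contra hne
  have hN11 : Nat.card N = 11 := by
    have h : Nat.card N ∣ 11 := (Nat.dvd_gcd h121
      ((Subgroup.card_dvd_of_le hNC).trans natCard_Cz.dvd)).trans (dvd_of_eq (by norm_num))
    exact ((Nat.dvd_prime (by norm_num)).1 h).resolve_left fun h1 => hne (Subgroup.card_eq_one.1 h1)
  set k := El wEleven with hk
  have hkC : k ∈ Cz := by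
    have hall : ∀ w : List Nat, (∀ x ∈ w, x ∈ cenIds) → El w ∈ Cz := by
      intro w
      induction w with
      | nil => intro _; rw [El_nil]; exact one_mem _
      | cons x w ih =>
        intro h
        simp only [List.forall_mem_cons] at h
        rw [El_cons]
        exact mul_mem (ih h.2) (El_mem_Cz h.1)
    exact hall wEleven (by decide)
  have hk36 : lt36 wEleven = true := by decide
  have hknc : k * gen J4.Gen.x ≠ gen J4.Gen.x * k := by
    intro h
    refine ne_of_app (u := wEleven ++ [0]) (w := [0] ++ wEleven) (by decide) (by decide) (v := 1)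
      (by norm_num) k_wit ?_
    have h0 : El [0] = gen J4.Gen.x :=
      (ψ_mlet (c := 0) (by simp)).symm.trans (PresentedGroup.toGroup.of mGen_rels)
    rw [El_append, El_append, h0, ← hk]
    exact h.symm
  have hk1 : k ^ 11 = 1 := by
    have hpow : ∀ n, El (List.replicate n wEleven).flatten = k ^ n := by
      intro n
      induction n with
      | zero => simp [El_nil]
      | succ n ih => rw [List.replicate_succ, List.flatten_cons, El_append, ih, pow_succ]
    rw [← hpow, ← El_nil]
    exact El_eq_of_sameM (by rw [k_eleven]; decide)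
  have : Fact (Nat.Prime 11) := ⟨by norm_num⟩
  have hkne : k ≠ 1 := fun h => hknc (by rw [h, one_mul, mul_one])
  have hko : orderOf k = 11 := orderOf_eq_prime hk1 hkne
  let f : N × Subgroup.zpowers k →* Cz := MonoidHom.noncommCoprod
    (Subgroup.inclusion hNC) (Subgroup.inclusion (Subgroup.zpowers_le.2 hkC))
    fun n x => Subtype.ext (hcen n.1 n.2 x.1)
  have hf : Function.Injective f := by
    refine (injective_iff_map_eq_one f).2 fun ⟨n, x⟩ h => ?_
    have h' : n.1 * x.1 = 1 := congrArg Subtype.val h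
    have hx : x.1 = 1 := by
      by_contra hx1
      have hxN : x.1 ∈ N := by
        rw [eq_inv_of_mul_eq_one_right h']; exact inv_mem n.2
      have hgen : Subgroup.zpowers x.1 = Subgroup.zpowers k := by
        refine SetLike.coe_injective (Set.Finite.eq_of_subset_of_card_le (Set.toFinite _)
          (Subgroup.zpowers_le.2 x.2) ?_)
        have hox : orderOf x.1 = 11 := ((Nat.dvd_prime (by norm_num)).1
          ((Subgroup.orderOf_dvd_natCard _ x.2).trans (dvd_of_eq ((Nat.card_zpowers k).trans hko)))).resolve_left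
            fun h1 => hx1 (orderOf_eq_one_iff.1 h1)
        simp [← Nat.card_coe_set_eq, Nat.card_zpowers, hox, hko]
      have hkN : k ∈ N := by
        have h2 : k ∈ Subgroup.zpowers x.1 := by rw [hgen]; exact Subgroup.mem_zpowers k
        exact Subgroup.zpowers_le.2 hxN h2
      exact hknc (hcen k hkN _)
    exact Prod.ext (Subtype.ext (by rw [hx, mul_one] at h'; exact h')) (Subtype.ext hx)
  have hd := Subgroup.card_dvd_of_injective f hf
  rw [Nat.card_prod, hN11, Nat.card_zpowers, hko, natCard_Cz] at hd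
  norm_num at hd

/-- the presented group is simple of the order of `J4` -/
theorem isJ4 : Cfsg.IsJ4 J := ⟨isSimpleGroup, natCard_J⟩

end CfsgLib.Spor.J4Cent
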