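import Cfsg.Agent.Lib.Spor.J4Cent.Vec
import Cfsg.Agent.Lib.Spor.J4Cent.Data

/-!
All tables describe linear maps.
-/

set_option linter.all false
set_option maxRecDepth 100000

namespace CfsgLib.Spor.J4Cent

theorem T0_ok : tabOK T0 = true := by decide +kernel
theorem T1_ok : tabOK T1 = true := by decide +kernel
theorem T2_ok : tabOK T2 = true := by decide +kernel
theorem T3_ok : tabOK T3 = true := by decide +kernel
theorem T4_ok : tabOK T4 = true := by decide +kernel
theorem T5_ok : tabOK T5 = true := by decide +kernel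
theorem T6_ok : tabOK T6 = true := by decide +kernel
theorem T7_ok : tabOK T7 = true := by decide +kernel
theorem T8_ok : tabOK T8 = true := by decide +kernel
theorem T9_ok : tabOK T9 = true := by decide +kernel
theorem T10_ok : tabOK T10 = true := by decide +kernel
theorem T11_ok : tabOK T11 = true := by decide +kernel
theorem T12_ok : tabOK T12 = true := by decide +kernel
theorem T13_ok : tabOK T13 = true := by decide +kernel
theorem T14_ok : tabOK T14 = true := by decide +kernel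
theorem T15_ok : tabOK T15 = true := by decide +kernel
theorem T16_ok : tabOK T16 = true := by decide +kernel
theorem T17_ok : tabOK T17 = true := by decide +kernel
theorem T18_ok : tabOK T18 = true := by decide +kernel
theorem T19_ok : tabOK T19 = true := by decide +kernel
theorem T20_ok : tabOK T20 = true := by decide +kernel
theorem T21_ok : tabOK T21 = true := by decide +kernel
theorem T22_ok : tabOK T22 = true := by decide +kernel
theorem T23_ok : tabOK T23 = true := by decide +kernel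
theorem T24_ok : tabOK T24 = true := by decide +kernel
theorem T25_ok : tabOK T25 = true := by decide +kernel
theorem T26_ok : tabOK T26 = true := by decide +kernel
theorem T27_ok : tabOK T27 = true := by decide +kernel
theorem T28_ok : tabOK T28 = true := by decide +kernel
theorem T29_ok : tabOK T29 = true := by decide +kernel
theorem T30_ok : tabOK T30 = true := by decide +kernel
theorem T31_ok : tabOK T31 = true := by decide +kernel
theorem T32_ok : tabOK T32 = true := by decide +kernel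
theorem T33_ok : tabOK T33 = true := by decide +kernel
theorem T34_ok : tabOK T34 = true := by decide +kernel
theorem T35_ok : tabOK T35 = true := by decide +kernel

theorem tabs_mem : ∀ T ∈ tabs, tabOK T = true ∧ T.length ≤ 28 := by
  simp only [tabs, List.forall_mem_cons, List.not_mem_nil, false_imp_iff, forall_const, and_true]
  exact ⟨⟨T0_ok, le_of_eq rfl⟩,
    ⟨T1_ok, le_of_eq rfl⟩,
    ⟨T2_ok, le_of_eq rfl⟩,
    ⟨T3_ok, le_of_eq rfl⟩,
    ⟨T4_ok, le_of_eq rfl⟩,
    ⟨T5_ok, le_of_eq rfl⟩,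
    ⟨T6_ok, le_of_eq rfl⟩,
    ⟨T7_ok, le_of_eq rfl⟩,
    ⟨T8_ok, le_of_eq rfl⟩,
    ⟨T9_ok, le_of_eq rfl⟩,
    ⟨T10_ok, le_of_eq rfl⟩,
    ⟨T11_ok, le_of_eq rfl⟩,
    ⟨T12_ok, le_of_eq rfl⟩,
    ⟨T13_ok, le_of_eq rfl⟩,
    ⟨T14_ok, le_of_eq rfl⟩,
    ⟨T15_ok, le_of_eq rfl⟩,
    ⟨T16_ok, le_of_eq rfl⟩,
    ⟨T17_ok, le_of_eq rfl⟩,
    ⟨T18_ok, le_of_eq rfl⟩,
    ⟨T19_ok, le_of_eq rfl⟩,
    ⟨T20_ok, le_of_eq rfl⟩,
    ⟨T21_ok, le_of_eq rfl⟩,
    ⟨T22_ok, le_of_eq rfl⟩,
    ⟨T23_ok, le_of_eq rfl⟩,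
    ⟨T24_ok, le_of_eq rfl⟩,
    ⟨T25_ok, le_of_eq rfl⟩,
    ⟨T26_ok, le_of_eq rfl⟩,
    ⟨T27_ok, le_of_eq rfl⟩,
    ⟨T28_ok, le_of_eq rfl⟩,
    ⟨T29_ok, le_of_eq rfl⟩,
    ⟨T30_ok, le_of_eq rfl⟩,
    ⟨T31_ok, le_of_eq rfl⟩,
    ⟨T32_ok, le_of_eq rfl⟩,
    ⟨T33_ok, le_of_eq rfl⟩,
    ⟨T34_ok, le_of_eq rfl⟩,
    ⟨T35_ok, le_of_eq rfl⟩⟩

theorem tabAt_ok (x : Nat) : tabOK (tabAt tabs x) = true ∧ (tabAt tabs x).length ≤ 28 := by
  unfold tabAt
  rcases lt_or_ge x tabs.length with h | h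
  · rw [List.getD_eq_getElem _ _ h]; exact tabs_mem _ (List.getElem_mem h)
  · rw [List.getD_eq_default _ _ h]; exact ⟨rfl, Nat.zero_le _⟩

end CfsgLib.Spor.J4Cent
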