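import Cfsg.Agent.Lib.Spor.J4Cent.Pts
import Cfsg.Agent.Lib.Spor.J4Cent.Scan0
import Cfsg.Agent.Lib.Spor.J4Cent.Scan1
import Cfsg.Agent.Lib.Spor.J4Cent.Scan2
import Cfsg.Agent.Lib.Spor.J4Cent.Scan3

/-!
The centraliser of the involution has order at most 77 times 283115520.
-/

set_option autoImplicit false
set_option maxRecDepth 100000
set_option maxHeartbeats 1000000

namespace CfsgLib.Spor.J4Cent

open CfsgLib.PresCert Cfsg.Spor Equiv

theorem scan_all : ∀ i < 20, i ≠ 0 → scanOK i = true ∧ survOK i = true := by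
  intro i h h0
  interval_cases i
  · exact absurd rfl h0
  · exact ⟨scan1_ok, surv1_ok⟩
  · exact ⟨scan2_ok, surv2_ok⟩
  · exact ⟨scan3_ok, surv3_ok⟩
  · exact ⟨scan4_ok, surv4_ok⟩
  · exact ⟨scan5_ok, surv5_ok⟩
  · exact ⟨scan6_ok, surv6_ok⟩
  · exact ⟨scan7_ok, surv7_ok⟩
  · exact ⟨scan8_ok, surv8_ok⟩
  · exact ⟨scan9_ok, surv9_ok⟩
  · exact ⟨scan10_ok, surv10_ok⟩
  · exact ⟨scan11_ok, surv11_ok⟩
  · exact ⟨scan12_ok, surv12_ok⟩
  · exact ⟨scan13_ok, surv13_ok⟩
  · exact ⟨scan14_ok, surv14_ok⟩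
  · exact ⟨scan15_ok, surv15_ok⟩
  · exact ⟨scan16_ok, surv16_ok⟩
  · exact ⟨scan17_ok, surv17_ok⟩
  · exact ⟨scan18_ok, surv18_ok⟩
  · exact ⟨scan19_ok, surv19_ok⟩

theorem fix_ok : (([0, 1, 3] ++ eIds).all fun x => Nat.beq (app [x] v0) v0) = true := by
  decide +kernel

theorem us_ok : (us.all fun f => eIds.all fun x =>
    Nat.beq (app [x] f) f || Nat.beq (app [x] f) (Nat.xor f v0)) = true := by decide +kernel

theorem us_lt : ∀ f ∈ us, f < 2 ^ 112 := by decide +kernel

theorem eIds_fix {x : Nat} (hx : x ∈ eIds) : app [x] v0 = v0 :=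
  Nat.eq_of_beq_eq_true (List.all_eq_true.1 fix_ok x (List.mem_append_right _ hx))

theorem app_eWL_fix (a : Nat) : app (eWL eIds a) v0 = v0 := by
  suffices ∀ w : List Nat, (∀ x ∈ w, x ∈ eIds) → app w v0 = v0 from this _ fun x => eWL_mem
  intro w
  induction w with
  | nil => intro _; rfl
  | cons x w ih =>
    intro h
    simp only [List.forall_mem_cons] at h
    rw [show x :: w = [x] ++ w from rfl, app, appW_append]
    rw [show appW tabs [x] v0 = v0 from eIds_fix h.1]
    exact ih h.2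

theorem app_eWL_us (a : Nat) {f : Nat} (hf : f ∈ us) :
    app (eWL eIds a) f = f ∨ app (eWL eIds a) f = f ^^^ v0 := by
  suffices ∀ w : List Nat, (∀ x ∈ w, x ∈ eIds) → app w f = f ∨ app w f = f ^^^ v0 from
    this _ fun x => eWL_mem
  intro w
  induction w with
  | nil => intro _; exact Or.inl rfl
  | cons x w ih =>
    intro h
    simp only [List.forall_mem_cons] at h
    have hx : app [x] f = f ∨ app [x] f = f ^^^ v0 := by
      have := List.all_eq_true.1 (List.all_eq_true.1 us_ok f hf) x h.1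
      simp only [Bool.or_eq_true, Nat.beq_eq] at this
      exact this
    have hw0 : app w v0 = v0 := by
      clear ih hx
      induction w with
      | nil => rfl
      | cons y w ih =>
        simp only [List.forall_mem_cons] at h
        rw [show y :: w = [y] ++ w from rfl, app, appW_append,
          show appW tabs [y] v0 = v0 from eIds_fix h.2.1]
        exact ih ⟨h.1, h.2.2⟩
    rw [show x :: w = [x] ++ w from rfl]
    simp only [app, appW_append] at hx ⊢
    rcases hx with e | e <;> rw [e]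
    · exact ih h.2
    · have hxor : app w (f ^^^ v0) = app w f ^^^ v0 := by rw [app_xor, hw0]
      rcases ih h.2 with e' | e'
      · right; rw [show appW tabs w (f ^^^ v0) = _ from hxor, e']
      · left; rw [show appW tabs w (f ^^^ v0) = _ from hxor, e', Nat.xor_assoc, Nat.xor_self,
          Nat.xor_zero]

theorem reps_lt : ∀ i < 20, lt36 (reps.getD i []) = true := by decide +kernel

theorem pos0_ok : pts.getD pos0 0 = v0 := by decide +kernel

theorem reach_ok : ((List.range 77).all fun i => (reach.getD i []).all (fun x => cenIds.contains x) &&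
    Nat.beq (app (reach.getD i []) v0) (pts.getD i 0)) = true := by decide +kernel

variable [Faith]

theorem π_e_v0 (a : Nat) : π (e a) vV = vV := Subtype.ext ((π_e a vV).trans (app_eWL_fix a))

theorem ψ_fix (m : M) : π (ψ m) vV = vV := by
  refine range_induction (p := fun g => π g vV = vV) (by simp) (fun c hc g hg => ?_) m
  rw [map_mul, Perm.mul_apply, hg]
  refine Subtype.ext ((π_El (lt36_iff.2 (by fin_cases hc <;> simp)) vV).trans ?_)
  exact Nat.eq_of_beq_eq_true (List.all_eq_true.1 fix_ok c (List.mem_append_left _ hc))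

/-- the point stabiliser -/
noncomputable def Pst : Subgroup Cfsg.Spor.J4 where
  carrier := {g | ∃ (m : M) (a : Nat), a < 2 ^ 11 ∧ g = ψ m * e a}
  one_mem' := ⟨1, 0, by norm_num, by simp [e_zero]⟩
  mul_mem' := by
    rintro _ _ ⟨m, a, ha, rfl⟩ ⟨n, b, hb, rfl⟩
    obtain ⟨c, hc, ec⟩ := conj_all n⁻¹ ha
    refine ⟨m * n, c ^^^ b, Nat.xor_lt_two_pow hc hb, ?_⟩
    rw [e_xor, ← ec, map_mul, map_inv]
    group
  inv_mem' := by
    rintro _ ⟨m, a, ha, rfl⟩
    obtain ⟨c, hc, ec⟩ := conj_all m ha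
    refine ⟨m⁻¹, c, hc, ?_⟩
    rw [← ec, mul_inv_rev, e_inv, map_inv]
    group

/-- what is needed about the presented group -/
structure Facts : Prop where
  finM : Finite M
  cardM : Nat.card M ≤ 244823040
  cover : ∀ g : Cfsg.Spor.J4, ∃ i < 20, ∃ m : M, ∃ p ∈ Pst, g = ψ m * El (reps.getD i []) * p

theorem surv_word : ∀ {w : List Nat} {a : Nat}, lt013 w = true → a < 2 ^ 11 →
    El w * e a * (El w)⁻¹ = e (w.foldl (fun a c => cm c a) a) := by
  intro w
  induction w with
  | nil => intro a _ _; simp [El_nil]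
  | cons c w ih =>
    intro a h ha
    rw [lt013_iff, List.forall_mem_cons] at h
    rw [List.foldl_cons, ← ih (lt013_iff.2 h.2) cm_lt, ← e_conj h.1 ha, El_cons]
    group

theorem El_revInv : ∀ {w : List Nat}, lt013 w = true → El (w.reverse.map ix) = (El w)⁻¹ := by
  intro w
  induction w with
  | nil => intro _; simp [El_nil]
  | cons c w ih =>
    intro h
    rw [lt013_iff, List.forall_mem_cons] at h
    rw [List.reverse_cons, List.map_append, El_append, ih (lt013_iff.2 h.2),
      List.map_cons, List.map_nil, El_ix h.1, El_cons c w, mul_inv_rev]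

variable (F : Facts)

include F

theorem orbit_pts {g : Cfsg.Spor.J4} (hg : g * z * g⁻¹ = z) : (π g vV).1 ∈ pts := by
  obtain ⟨i, hi, m, p, ⟨n, k, hk, rfl⟩, rfl⟩ := F.cover g
  have hp : π (ψ n * e k) vV = vV := by rw [map_mul, Perm.mul_apply, π_e_v0, ψ_fix]
  rcases eq_or_ne i 0 with rfl | hi0
  · rw [show reps.getD 0 [] = [] from rfl, El_nil, mul_one, map_mul, Perm.mul_apply, hp, ψ_fix]
    exact v0_mem
  obtain ⟨hscan, hsurv⟩ := scan_all i hi hi0
  set rw_ := reps.getD i [] with hrw
  have h36 : lt36 rw_ = true := reps_lt i hi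
  obtain ⟨b', -, eb'⟩ := conj_all n (show 1 < 2 ^ 11 by norm_num)
  obtain ⟨a, ha, ea⟩ := conj_z m⁻¹ (show zmem 1 = true by decide +kernel)
  have hb : ψ n * e k * z * (ψ n * e k)⁻¹ = e b' := by
    rw [← eb', z]
    calc ψ n * e k * e 1 * (ψ n * e k)⁻¹ = ψ n * (e k * e 1) * (e k)⁻¹ * (ψ n)⁻¹ := by group
      _ = ψ n * e 1 * (ψ n)⁻¹ := by rw [(e_comm k 1).eq]; group
  have hmain : El rw_ * e b' * (El rw_)⁻¹ = e a := by
    have ea' : e a = (ψ m)⁻¹ * z * ψ m := by rw [← ea, z, map_inv, inv_inv]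
    rw [ea', ← hb]
    conv_rhs => rw [← hg]
    group
  have hmain' : e a * El rw_ = El rw_ * e b' := by rw [← hmain]; group
  simp only [scanOK, forceN_eq, Bool.and_eq_true] at hscan
  have hs := scanB_spec _ _ _ _ _ hscan.2 a (zmem_lt ha)
  rw [Nat.zero_add, Nat.one_mul] at hs
  set w := app rw_ v0 with hw
  have hwV : (π (El rw_) vV).1 = w := π_El h36 vV
  have hfixw : app (eWL eIds a) w = w := by
    rw [← hwV, ← π_e, ← Perm.mul_apply, ← map_mul, hmain', map_mul, Perm.mul_apply, π_e_v0]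
  simp only [leafOK, ha, Bool.not_true, Bool.false_or, hfixw, Nat.beq_refl, Bool.or_eq_true,
    List.any_eq_true, List.mem_map, forceN_eq, Bool.and_eq_true, Bool.not_eq_true'] at hs
  rcases hs with ⟨⟨a', tw⟩, hmem, he⟩ | ⟨_, ⟨f, hf, rfl⟩, hne⟩
  · obtain rfl := Nat.eq_of_beq_eq_true he
    simp only [survOK, List.all_eq_true, Bool.and_eq_true] at hsurv
    obtain ⟨⟨htw, hfold⟩, hin⟩ := hsurv _ hmem
    have hfold' := Nat.eq_of_beq_eq_true hfold
    have et : e a' = El tw * z * (El tw)⁻¹ := by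
      rw [z, surv_word htw (by norm_num)]; exact congrArg e hfold'.symm
    have hm0 : m * mEl tw ∈ S0 := by
      rw [mem_S0, map_mul, ψ_mEl htw]
      have ea' : e a' = (ψ m)⁻¹ * z * ψ m := by rw [← ea, z, map_inv, inv_inv]
      calc ψ m * El tw * z * (ψ m * El tw)⁻¹ = ψ m * (El tw * z * (El tw)⁻¹) * (ψ m)⁻¹ := by group
        _ = z := by rw [← et, ea']; group
    have := F.finM
    have hP := S0_le_Pts F.cardM _ hm0
    rw [map_mul, ψ_mEl htw] at hP
    have hg' : ψ m * El rw_ * (ψ n * e k) =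
        (ψ m * El tw) * El (rw_ ++ tw.reverse.map ix) * (ψ n * e k) := by
      rw [El_append, El_revInv htw]; group
    rw [hg', map_mul, Perm.mul_apply, hp, map_mul, Perm.mul_apply]
    refine (hP _).2 ?_
    rw [π_El (lt36_append.2 ⟨h36, lt36_iff.2 fun x hx => ?_⟩)]
    · exact inPts_iff.1 hin
    · obtain ⟨y, hy, rfl⟩ := List.mem_map.1 hx
      have := lt013_iff.1 htw y (List.mem_reverse.1 hy)
      fin_cases this <;> decide
  · exfalso
    have hfV : (π (El rw_) ⟨f, us_lt f hf⟩).1 = app rw_ f := π_El h36 _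
    have key : app (eWL eIds a) (app rw_ f) = app rw_ f ∨
        app (eWL eIds a) (app rw_ f) = app rw_ f ^^^ w := by
      rw [← hfV, ← π_e, ← Perm.mul_apply, ← map_mul, hmain', map_mul, Perm.mul_apply]
      rcases app_eWL_us b' hf with e' | e'
      · left
        rw [show π (e b') ⟨f, us_lt f hf⟩ = ⟨f, us_lt f hf⟩ from Subtype.ext ((π_e _ _).trans e')]
      · right
        rw [show π (e b') ⟨f, us_lt f hf⟩ = vx ⟨f, us_lt f hf⟩ vV from
          Subtype.ext ((π_e _ _).trans e'), π_vx, ← hwV]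
        rfl
    rcases key with e' | e'
    · rw [e', Nat.beq_refl] at hne
      exact absurd hne.1 (by decide)
    · rw [e'] at hne
      rw [show app rw_ f ^^^ w = Nat.xor (app rw_ f) w from rfl, Nat.beq_refl] at hne
      exact absurd hne.2 (by decide)

theorem stab_form {g : Cfsg.Spor.J4} (hg : g * z * g⁻¹ = z) (hv : π g vV = vV) :
    ∃ m ∈ S0, ∃ a < 2 ^ 11, g = ψ m * e a := by
  obtain ⟨i, hi, m, p, ⟨n, k, hk, rfl⟩, rfl⟩ := F.cover g
  have hp : π (ψ n * e k) vV = vV := by rw [map_mul, Perm.mul_apply, π_e_v0, ψ_fix]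
  rcases eq_or_ne i 0 with rfl | hi0
  · refine ⟨m * n, ?_, k, hk, ?_⟩
    · rw [mem_S0]
      calc ψ (m * n) * z * (ψ (m * n))⁻¹
          = ψ (m * n) * (e k * z) * (e k)⁻¹ * (ψ (m * n))⁻¹ := by
            rw [z, (e_comm k 1).eq]; group
        _ = z := by
            conv_rhs => rw [← hg]
            rw [show reps.getD 0 [] = [] from rfl, El_nil, map_mul]
            group
    · rw [show reps.getD 0 [] = [] from rfl, El_nil, map_mul]
      group
  · exfalso
    obtain ⟨hscan, -⟩ := scan_all i hi hi0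
    simp only [scanOK, forceN_eq, Bool.and_eq_true, Bool.not_eq_true'] at hscan
    rw [map_mul, Perm.mul_apply, hp, map_mul, Perm.mul_apply] at hv
    have h2 : π (El (reps.getD i [])) vV = vV := (π (ψ m)).injective (hv.trans (ψ_fix m).symm)
    have h3 := π_El (reps_lt i hi) vV
    rw [h2] at h3
    have h4 : app (reps.getD i []) v0 = v0 := h3.symm
    have h5 := hscan.1
    rw [h4, Nat.beq_refl] at h5
    exact absurd h5 (by decide)

omit F in
theorem z_sq : z * z = 1 := e_sq 1

omit F in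
theorem reach_comm (i : Nat) (hi : i < 77) : El (reach.getD i []) * z * (El (reach.getD i []))⁻¹ = z ∧
    (π (El (reach.getD i [])) vV).1 = pts.getD i 0 := by
  have h := List.all_eq_true.1 reach_ok i (List.mem_range.2 hi)
  simp only [Bool.and_eq_true, List.all_eq_true, List.contains_iff_mem] at h
  refine ⟨?_, ?_⟩
  · rw [mul_inv_eq_iff_eq_mul]
    revert h
    generalize reach.getD i [] = w
    intro h
    have h' := h.1
    clear h
    induction w with
    | nil => simp [El_nil]
    | cons x w ih =>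
      simp only [List.forall_mem_cons] at h'
      rw [El_cons, mul_assoc, El_comm_z h'.1, ← mul_assoc, ih h'.2, mul_assoc]
  · rw [π_El (lt36_iff.2 fun x hx => cenIds_lt x (h.1 x hx))]
    exact Nat.eq_of_beq_eq_true h.2

theorem cent_mem_Pts {g : Cfsg.Spor.J4} (hg : g * z * g⁻¹ = z) : g ∈ Pts := by
  refine mem_Pts_of_mapsTo fun v hv => ?_
  obtain ⟨i, hi, e'⟩ := List.getElem_of_mem hv
  obtain ⟨h1, h2⟩ := reach_comm i hi
  rw [List.getD_eq_getElem _ _ hi, e'] at h2
  rw [show v = π (El (reach.getD i [])) vV from Subtype.ext h2.symm, ← Perm.mul_apply, ← map_mul]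
  refine orbit_pts F ?_
  calc g * El (reach.getD i []) * z * (g * El (reach.getD i []))⁻¹
      = g * (El (reach.getD i []) * z * (El (reach.getD i []))⁻¹) * g⁻¹ := by group
    _ = z := by rw [h1, hg]

/-- the centraliser has bounded order -/
theorem card_cent_le [Finite Cfsg.Spor.J4] :
    Nat.card (Subgroup.centralizer ({z} : Set Cfsg.Spor.J4)) ≤ 21799895040 := by
  have := F.finM
  have hmem : ∀ g : Subgroup.centralizer ({z} : Set Cfsg.Spor.J4), g.1 * z * g.1⁻¹ = z := fun g => by
    rw [mul_inv_eq_iff_eq_mul]; exact Subgroup.mem_centralizer_singleton_iff.1 g.2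
  have hidx : ∀ g : Subgroup.centralizer ({z} : Set Cfsg.Spor.J4),
      ∃ i : Fin 77, π g.1 vV = π (El (reach.getD i [])) vV := fun g => by
    obtain ⟨i, hi, e'⟩ := List.getElem_of_mem (orbit_pts F (hmem g))
    refine ⟨⟨i, hi⟩, Subtype.ext ?_⟩
    rw [(reach_comm i hi).2, List.getD_eq_getElem _ _ hi, e']
  choose idx hidx using hidx
  have hst : ∀ g, ∃ (m : S0) (a : Fin (2 ^ 11)),
      (El (reach.getD (idx g) []))⁻¹ * g.1 = ψ m.1 * e a := fun g => by
    obtain ⟨m, hm, a, ha, e'⟩ := stab_form F (g := (El (reach.getD (idx g) []))⁻¹ * g.1) (by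
      have h1 := (reach_comm (idx g) (idx g).2).1
      calc _ = (El (reach.getD (idx g) []))⁻¹ * (g.1 * z * g.1⁻¹) * El (reach.getD (idx g) []) := by
              group
        _ = z := by rw [hmem g]; conv_lhs => rw [← h1]
                    group) (by rw [map_mul, Perm.mul_apply, hidx g, map_inv]; simp)
    exact ⟨⟨m, hm⟩, ⟨a, ha⟩, e'⟩
  choose sm sa hst using hst
  let f : Subgroup.centralizer ({z} : Set Cfsg.Spor.J4) → Fin 77 × S0 × Fin (2 ^ 11) :=
    fun g => (idx g, sm g, sa g)
  have hf : Function.Injective f := by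
    intro g h e'
    simp only [f, Prod.mk.injEq] at e'
    have h1 := hst g
    have h2 := hst h
    rw [e'.1, e'.2.1, e'.2.2] at h1
    exact Subtype.ext (mul_left_cancel (h1.trans h2.symm))
  have := Nat.card_le_card_of_injective f hf
  rw [Nat.card_prod, Nat.card_prod, Nat.card_fin, Nat.card_fin] at this
  have hs := card_S0 F.cardM
  calc _ ≤ 77 * (Nat.card S0 * 2 ^ 11) := this
    _ ≤ 77 * (138240 * 2 ^ 11) := by gcongr
    _ = 21799895040 := by norm_num

end CfsgLib.Spor.J4Cent
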