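import Cfsg.Agent.Lib.PresCert.Tree

/-!
Linear maps on binary vectors of length 112 given by tables indexed by groups of four bits.
-/

set_option autoImplicit false

namespace CfsgLib.Spor.J4Cent

open CfsgLib.PresCert

/-- evaluate the number before passing it on -/
noncomputable def forceN {α : Sort*} (v : Nat) (f : Nat → α) : α :=
  Nat.rec (motive := fun _ => α) (f (nat_lit 0)) (fun k _ => f (Nat.succ k)) v

@[simp] theorem forceN_eq {α : Sort*} (v : Nat) (f : Nat → α) : forceN v f = f v := by
  cases v <;> rfl

/-- entry of a packed group of sixteen vectors -/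
noncomputable def ent (N a : Nat) : Nat :=
  Nat.land (Nat.shiftRight N (Nat.mul a (nat_lit 112))) (nat_lit 5192296858534827628530496329220095)

/-- sum of the entries selected by the groups of four bits -/
noncomputable def vmL : List Nat → Nat → Nat → Nat :=
  List.rec (motive := fun _ => Nat → Nat → Nat) (fun _ acc => acc)
    (fun N _ ih v acc => forceN (Nat.xor acc (ent N (Nat.land v (nat_lit 15)))) fun acc =>
      forceN (Nat.shiftRight v (nat_lit 4)) fun v => ih v acc)

/-- the image of a vector under a tabulated map -/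
noncomputable def vm (T : List Nat) (v : Nat) : Nat := forceN v fun v => vmL T v (nat_lit 0)

/-- the selected bit times a vector -/
noncomputable def sel (v r : Nat) : Nat := Nat.mul (Nat.land v (nat_lit 1)) r

/-- the four rows in a packed group -/
noncomputable def grpRows (N : Nat) : List Nat :=
  [ent N (nat_lit 1), ent N (nat_lit 2), ent N (nat_lit 4), ent N (nat_lit 8)]

/-- the rows of the matrix of a table -/
noncomputable def rowsOf (T : List Nat) : List Nat := T.flatMap grpRows

/-- a table describes a linear map -/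
noncomputable def tabOK (T : List Nat) : Bool :=
  T.all fun N => allBelow (nat_lit 16) fun a =>
    Nat.beq (ent N a) (Nat.xor (sel a (ent N (nat_lit 1)))
      (Nat.xor (sel (Nat.shiftRight a (nat_lit 1)) (ent N (nat_lit 2)))
        (Nat.xor (sel (Nat.shiftRight a (nat_lit 2)) (ent N (nat_lit 4)))
          (sel (Nat.shiftRight a (nat_lit 3)) (ent N (nat_lit 8))))))

/-- the table selected by a number -/
noncomputable def tabAt (ts : List (List Nat)) (x : Nat) : List Nat := ts.getD x []

/-- apply the maps of a word from left to right -/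
noncomputable def appW (ts : List (List Nat)) : List Nat → Nat → Nat :=
  List.rec (motive := fun _ => Nat → Nat) (fun v => v)
    (fun x _ ih v => forceN (vm (tabAt ts x) v) ih)

theorem appW_nil (ts : List (List Nat)) (v : Nat) : appW ts [] v = v := rfl

theorem appW_cons (ts : List (List Nat)) (x : Nat) (w : List Nat) (v : Nat) :
    appW ts (x :: w) v = appW ts w (vm (tabAt ts x) v) := by
  simp [appW]

theorem appW_append (ts : List (List Nat)) (u w : List Nat) (v : Nat) :
    appW ts (u ++ w) v = appW ts w (appW ts u v) := by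
  induction u generalizing v with
  | nil => rfl
  | cons x u ih => simp [appW_cons, ih]

theorem xor_interchange (a b c d : Nat) : (a ^^^ b) ^^^ (c ^^^ d) = (a ^^^ c) ^^^ (b ^^^ d) := by
  rw [Nat.xor_assoc, Nat.xor_assoc, ← Nat.xor_assoc b, Nat.xor_comm b c, Nat.xor_assoc c]

theorem vmL_cons (N : Nat) (T : List Nat) (v acc : Nat) :
    vmL (N :: T) v acc = vmL T (v >>> 4) (acc ^^^ ent N (v &&& 15)) := by
  simp only [vmL, forceN_eq]
  rfl

theorem ent_lt (N a : Nat) : ent N a < 2 ^ 112 :=
  lt_of_le_of_lt Nat.and_le_right (by norm_num)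

theorem vm_lt (T : List Nat) (v : Nat) : vm T v < 2 ^ 112 := by
  simp only [vm, forceN_eq]
  suffices ∀ w acc, acc < 2 ^ 112 → vmL T w acc < 2 ^ 112 from this v 0 (Nat.two_pow_pos _)
  induction T with
  | nil => exact fun _ _ h => h
  | cons N T ih =>
    intro w acc hacc
    rw [vmL_cons]
    exact ih _ _ (Nat.xor_lt_two_pow hacc (ent_lt N _))

/-- sum of the rows selected by the bits -/
noncomputable def dot : List Nat → Nat → Nat :=
  List.rec (motive := fun _ => Nat → Nat) (fun _ => nat_lit 0)
    (fun r _ ih v => Nat.xor (sel v r) (ih (Nat.shiftRight v (nat_lit 1))))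

theorem dot_nil (v : Nat) : dot [] v = 0 := rfl

theorem dot_cons (r : Nat) (rs : List Nat) (v : Nat) :
    dot (r :: rs) v = sel v r ^^^ dot rs (v >>> 1) := rfl

theorem sel_xor (a b r : Nat) : sel (a ^^^ b) r = sel a r ^^^ sel b r := by
  show ((a ^^^ b) &&& 1) * r = (a &&& 1) * r ^^^ (b &&& 1) * r
  rw [Nat.and_xor_distrib_right, Nat.and_one_is_mod, Nat.and_one_is_mod]
  rcases Nat.mod_two_eq_zero_or_one a with h | h <;> rcases Nat.mod_two_eq_zero_or_one b with h' | h' <;>
    simp [h, h']

theorem dot_xor (rs : List Nat) : ∀ a b, dot rs (a ^^^ b) = dot rs a ^^^ dot rs b := by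
  induction rs with
  | nil => intro a b; simp [dot_nil]
  | cons r rs ih =>
    intro a b
    rw [dot_cons, dot_cons, dot_cons, sel_xor, Nat.shiftRight_xor_distrib, ih]
    exact xor_interchange _ _ _ _

theorem sel_mod (v n r : Nat) (hn : n < 4) : sel ((v &&& 15) >>> n) r = sel (v >>> n) r := by
  show ((v &&& 15) >>> n &&& 1) * r = (v >>> n &&& 1) * r
  congr 1
  rw [Nat.shiftRight_and_distrib, Nat.and_assoc]
  congr 1
  interval_cases n <;> rfl

theorem vm_eq_dot {T : List Nat} (h : tabOK T = true) (v : Nat) : vm T v = dot (rowsOf T) v := by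
  simp only [vm, forceN_eq]
  suffices ∀ v acc, vmL T v acc = acc ^^^ dot (rowsOf T) v by simpa using this v 0
  simp only [tabOK, List.all_eq_true] at h
  induction T with
  | nil => intro v acc; simp [vmL, rowsOf, dot_nil]
  | cons N T ih =>
    intro v acc
    have e : ent N (v &&& 15) = _ := Nat.eq_of_beq_eq_true (allBelow_spec
      (h N (List.mem_cons_self ..)) _ (lt_of_le_of_lt Nat.and_le_right (show 15 < 16 by norm_num)))
    rw [vmL_cons, ih (fun M hM => h M (List.mem_cons_of_mem _ hM)), e,
      show rowsOf (N :: T) = ent N 1 :: ent N 2 :: ent N 4 :: ent N 8 :: rowsOf T from rfl,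
      dot_cons, dot_cons, dot_cons, dot_cons, ← Nat.shiftRight_add, ← Nat.shiftRight_add,
      ← Nat.shiftRight_add]
    show acc ^^^ (sel (v &&& 15) _ ^^^ (sel ((v &&& 15) >>> 1) _ ^^^
      (sel ((v &&& 15) >>> 2) _ ^^^ sel ((v &&& 15) >>> 3) _))) ^^^ _ = _
    rw [sel_mod v 1 _ (by norm_num), sel_mod v 2 _ (by norm_num), sel_mod v 3 _ (by norm_num),
      show sel (v &&& 15) (ent N 1) = sel v (ent N 1) by
        simpa using sel_mod v 0 (ent N 1) (by norm_num)]
    simp only [Nat.xor_assoc, Nat.reduceAdd]

theorem vm_xor {T : List Nat} (h : tabOK T = true) (a b : Nat) :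
    vm T (a ^^^ b) = vm T a ^^^ vm T b := by
  simp only [vm_eq_dot h, dot_xor]

theorem eq_zero_of_xor_linear {f : Nat → Nat} (hf : ∀ a b, f (a ^^^ b) = f a ^^^ f b) : f 0 = 0 := by
  have := hf 0 0
  simpa using this

/-- linear maps agreeing on the unit vectors agree on all vectors -/
theorem lin_ext {f g : Nat → Nat} (hf : ∀ a b, f (a ^^^ b) = f a ^^^ f b)
    (hg : ∀ a b, g (a ^^^ b) = g a ^^^ g b) (m : Nat) (h : ∀ j < m, f (2 ^ j) = g (2 ^ j)) :
    ∀ v < 2 ^ m, f v = g v := by
  induction m with
  | zero =>
    intro v hv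
    obtain rfl : v = 0 := by simpa using hv
    rw [eq_zero_of_xor_linear hf, eq_zero_of_xor_linear hg]
  | succ n ih =>
    intro v hv
    rcases lt_or_ge v (2 ^ n) with hlt | hge
    · exact ih (fun j hj => h j (by omega)) v hlt
    · have e : v = (v ^^^ 2 ^ n) ^^^ 2 ^ n := by simp
      have hlt : v ^^^ 2 ^ n < 2 ^ n := by
        refine Nat.lt_pow_two_of_testBit _ fun i hi => ?_
        rw [Nat.testBit_xor, Nat.testBit_two_pow]
        rcases hi.eq_or_lt with rfl | hi'
        · have : v.testBit n = true := by
            by_contra hb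
            have : v < 2 ^ n := Nat.lt_pow_two_of_testBit _ fun k hk => by
              rcases hk.eq_or_lt with rfl | hk'
              · simpa using hb
              · exact Nat.testBit_lt_two_pow (lt_of_lt_of_le hv (Nat.pow_le_pow_right (by norm_num) hk'))
            omega
          simp [this]
        · rw [Nat.testBit_lt_two_pow (lt_of_lt_of_le hv (Nat.pow_le_pow_right (by norm_num) hi'))]
          simp [hi'.ne]
      rw [e, hf, hg, ih (fun j hj => h j (by omega)) _ hlt, h n (by omega)]

/-! ### products of matrices with the rows packed into one number -/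

/-- rows packed into one number -/
def pack : List Nat → Nat
  | [] => 0
  | v :: l => 2 ^ 112 * pack l + v

theorem pack_testBit {v : Nat} (hv : v < 2 ^ 112) (l : List Nat) (j : Nat) :
    (pack (v :: l)).testBit j = if j < 112 then v.testBit j else (pack l).testBit (j - 112) :=
  Nat.testBit_two_pow_mul_add _ hv j

theorem pack_xor : ∀ {l l' : List Nat}, l.length = l'.length → (∀ v ∈ l, v < 2 ^ 112) →
    (∀ v ∈ l', v < 2 ^ 112) → pack l ^^^ pack l' = pack (List.zipWith (· ^^^ ·) l l') := by
  intro l
  induction l with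
  | nil => intro l' h _ _; simp [List.length_eq_zero_iff.1 h.symm, pack]
  | cons v l ih =>
    rintro (_ | ⟨w, l'⟩) h h1 h2
    · simp at h
    · simp only [List.forall_mem_cons] at h1 h2
      refine Nat.eq_of_testBit_eq fun j => ?_
      rw [Nat.testBit_xor, pack_testBit h1.1, pack_testBit h2.1, List.zipWith_cons_cons,
        pack_testBit (Nat.xor_lt_two_pow h1.1 h2.1), ← ih (by simpa using h) h1.2 h2.2]
      split <;> simp

theorem pack_inj : ∀ {l l' : List Nat}, l.length = l'.length → (∀ v ∈ l, v < 2 ^ 112) →
    (∀ v ∈ l', v < 2 ^ 112) → pack l = pack l' → l = l' := by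
  intro l
  induction l with
  | nil => intro l' h _ _ _; exact (List.length_eq_zero_iff.1 h.symm).symm
  | cons v l ih =>
    rintro (_ | ⟨w, l'⟩) h h1 h2 e
    · simp at h
    · simp only [List.forall_mem_cons] at h1 h2
      simp only [pack] at e
      have e1 := congrArg (· % 2 ^ 112) e
      simp only [Nat.mul_add_mod, Nat.mod_eq_of_lt h1.1, Nat.mod_eq_of_lt h2.1] at e1
      subst e1
      rw [ih (by simpa using h) h1.2 h2.2
        (Nat.eq_of_mul_eq_mul_left (Nat.two_pow_pos 112) (Nat.add_right_cancel e))]

/-- ones at the starts of all rows -/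
def ones (n : Nat) : Nat := pack (List.replicate n 1)

/-- add the selected multiples of the rows -/
noncomputable def mulAux (O : Nat) : List Nat → Nat → Nat → Nat :=
  List.rec (motive := fun _ => Nat → Nat → Nat) (fun _ acc => acc)
    (fun r _ ih A acc => forceN (Nat.xor acc (Nat.mul (Nat.land A O) r)) fun acc =>
      forceN (Nat.shiftRight A (nat_lit 1)) fun A => ih A acc)

theorem mulAux_cons (O r : Nat) (rs : List Nat) (A acc : Nat) :
    mulAux O (r :: rs) A acc = mulAux O rs (A >>> 1) (acc ^^^ (A &&& O) * r) := by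
  simp only [mulAux, forceN_eq]
  rfl

theorem and_ones {b : Nat} (hb : b < 112) : ∀ {l : List Nat}, (∀ v ∈ l, v < 2 ^ 112) →
    (pack l >>> b) &&& ones l.length = pack (l.map fun v => (v >>> b) &&& 1) := by
  intro l
  induction l with
  | nil => intro _; simp [pack, ones]
  | cons v l ih =>
    intro h
    simp only [List.forall_mem_cons] at h
    refine Nat.eq_of_testBit_eq fun j => ?_
    rw [List.map_cons, pack_testBit (lt_of_le_of_lt Nat.and_le_right (by norm_num)), ← ih h.2,
      Nat.testBit_and, Nat.testBit_shiftRight, pack_testBit h.1, List.length_cons, ones,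
      List.replicate_succ, pack_testBit (by norm_num), ← ones]
    simp only [Nat.testBit_and, Nat.testBit_shiftRight]
    by_cases hj : j < 112
    · simp only [hj, if_true]
      by_cases h0 : j = 0
      · subst h0; simp [hb]
      · simp [h0, (Nat.testBit_one_eq_true_iff_self_eq_zero (i := j)).not.2 h0]
    · simp only [hj, if_false, if_neg (show ¬ b + j < 112 by omega)]
      rw [show b + j - 112 = b + (j - 112) by omega]

theorem pack_mul (r : Nat) : ∀ l : List Nat, pack l * r = pack (l.map (· * r)) := by
  intro l
  induction l with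
  | nil => simp [pack]
  | cons v l ih => simp only [pack, List.map_cons, ← ih]; ring

theorem dot_lt {rs : List Nat} (h : ∀ r ∈ rs, r < 2 ^ 112) : ∀ v, dot rs v < 2 ^ 112 := by
  induction rs with
  | nil => intro v; exact Nat.two_pow_pos _
  | cons r rs ih =>
    intro v
    simp only [List.forall_mem_cons] at h
    refine Nat.xor_lt_two_pow ?_ (ih h.2 _)
    show (v &&& 1) * r < 2 ^ 112
    rcases Nat.mod_two_eq_zero_or_one v with h' | h' <;> simp [-Nat.reducePow, Nat.and_one_is_mod, h', h.1, Nat.two_pow_pos]

theorem mulAux_spec {l : List Nat} (hl : ∀ v ∈ l, v < 2 ^ 112) :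
    ∀ (rs : List Nat) (b : Nat), b + rs.length ≤ 112 → (∀ r ∈ rs, r < 2 ^ 112) →
      ∀ f : Nat → Nat, (∀ v, f v < 2 ^ 112) →
        mulAux (ones l.length) rs (pack l >>> b) (pack (l.map f)) =
          pack (l.map fun v => f v ^^^ dot rs (v >>> b)) := by
  intro rs
  induction rs with
  | nil => intro b _ _ f _; simp [dot_nil, mulAux]
  | cons r rs ih =>
    intro b hb hr f hf
    simp only [List.forall_mem_cons] at hr
    simp only [List.length_cons] at hb
    have hg : ∀ v, (v >>> b &&& 1) * r < 2 ^ 112 := fun v => by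
      rcases Nat.mod_two_eq_zero_or_one (v >>> b) with h' | h' <;>
        simp [-Nat.reducePow, Nat.and_one_is_mod, h', hr.1, Nat.two_pow_pos]
    have e1 : pack (l.map fun v => (v >>> b) &&& 1) * r =
        pack (l.map fun v => (v >>> b &&& 1) * r) := by
      rw [pack_mul, List.map_map]; rfl
    have e2 : pack (l.map f) ^^^ pack (l.map fun v => (v >>> b &&& 1) * r) =
        pack (l.map fun v => f v ^^^ (v >>> b &&& 1) * r) := by
      rw [pack_xor (by simp) (List.forall_mem_map.2 fun v _ => hf v)
        (List.forall_mem_map.2 fun v _ => hg v), List.zipWith_map, List.zipWith_self]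
    rw [mulAux_cons, and_ones (by omega) hl, e1, e2, ← Nat.shiftRight_add,
      ih (b + 1) (by omega) hr.2 (fun v => f v ^^^ (v >>> b &&& 1) * r)
        fun v => Nat.xor_lt_two_pow (hf v) (hg v)]
    congr 1
    refine List.map_congr_left fun v _ => ?_
    rw [dot_cons, ← Nat.shiftRight_add, Nat.xor_assoc]
    rfl

/-- the unit vectors -/
def units : List Nat := (List.range 112).map (2 ^ ·)

/-- product of packed rows with a table -/
noncomputable def mulM (O : Nat) (T : List Nat) (A : Nat) : Nat := mulAux O (rowsOf T) A (nat_lit 0)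

theorem mulM_spec {T : List Nat} (h : tabOK T = true) (hlen : T.length ≤ 28) {l : List Nat}
    (hl : ∀ v ∈ l, v < 2 ^ 112) : mulM (ones l.length) T (pack l) = pack (l.map (vm T)) := by
  have hz : pack (l.map fun _ => 0) = 0 := by
    clear hl
    induction l with
    | nil => rfl
    | cons v l ih => simp only [List.map_cons, pack]; rw [ih, Nat.mul_zero]
  have := mulAux_spec hl (rowsOf T) 0 (by simp [rowsOf, grpRows]; omega)
    (fun r hr => by
      simp only [rowsOf, grpRows, List.mem_flatMap, List.mem_cons, List.not_mem_nil, or_false] at hr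
      obtain ⟨N, -, rfl | rfl | rfl | rfl⟩ := hr <;> exact ent_lt _ _)
    (fun _ => 0) fun _ => Nat.two_pow_pos _
  rw [hz, Nat.shiftRight_zero] at this
  rw [mulM, this]
  congr 1
  refine List.map_congr_left fun v _ => ?_
  rw [vm_eq_dot h, Nat.shiftRight_zero, Nat.zero_xor]

/-- packed rows of the matrix of a word -/
noncomputable def matW (ts : List (List Nat)) (O I0 : Nat) : List Nat → Nat :=
  fun w => List.rec (motive := fun _ => Nat → Nat) (fun A => A)
    (fun x _ ih A => forceN (mulM O (tabAt ts x) A) ih) w I0

theorem matW_spec {ts : List (List Nat)} (h : ∀ x, tabOK (tabAt ts x) = true)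
    (hlen : ∀ x, (tabAt ts x).length ≤ 28) : ∀ (w l : List Nat), (∀ v ∈ l, v < 2 ^ 112) →
      matW ts (ones l.length) (pack l) w = pack (l.map (appW ts w)) := by
  intro w
  induction w with
  | nil => intro l _; exact congrArg pack (List.map_id _).symm
  | cons x w ih =>
    intro l hl
    have := ih (l.map (vm (tabAt ts x))) (by simp [-Nat.reducePow, vm_lt])
    simp only [matW, forceN_eq] at this ⊢
    rw [mulM_spec (h x) (hlen x) hl]
    rw [List.length_map, List.map_map] at this
    rw [this]
    congr 1
    exact List.map_congr_left fun v _ => (appW_cons ts x w v).symm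

end CfsgLib.Spor.J4Cent
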